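import Mathlib
import Groth.Prelude.Def_AffAlg

/-!
# S-morphisms into an affine S-scheme are algebra homomorphisms of the direct images
-/

noncomputable section

universe u

open CategoryTheory Limits AlgebraicGeometry Opposite TopologicalSpace

namespace EGA2AlgOf

variable {X Y S : Scheme.{u}} (f : X ⟶ S) (g : Y ⟶ S)

theorem algHom_app (h : Y ⟶ X) (w : h ≫ f = g) (U : S.Opens) :
    (AffAlg.algHom f g h w).app (op U) =
      h.appLE (f ⁻¹ᵁ U) (g ⁻¹ᵁ U) (by subst w; exact le_rfl) := by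
  subst w
  simp only [AffAlg.algHom, eqToHom_refl, Category.comp_id, Scheme.Hom.appLE, Scheme.Hom.app]
  change h.c.app (op (f ⁻¹ᵁ U)) = h.c.app (op (f ⁻¹ᵁ U)) ≫ Y.presheaf.map _
  exact ((congrArg (h.c.app (op (f ⁻¹ᵁ U)) ≫ ·) (Y.presheaf.map_id _)).trans
    (Category.comp_id _)).symm

theorem eq_of_toSpecΓ_SpecMap {V : Y.Opens} {R : CommRingCat.{u}} {φ ψ : R ⟶ Γ(Y, V)}
    (h : V.toSpecΓ ≫ Spec.map φ = V.toSpecΓ ≫ Spec.map ψ) : φ = ψ := by
  have := congrArg Scheme.Hom.appTop h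
  simp only [Scheme.Hom.comp_appTop, Scheme.Opens.toSpecΓ_appTop] at this
  rw [← Category.assoc, ← Category.assoc, Scheme.ΓSpecIso_naturality,
    Scheme.ΓSpecIso_naturality] at this
  simp only [cancel_mono] at this
  exact (cancel_epi _).1 this

variable [IsAffineHom f] (ω : f.base _* X.presheaf ⟶ g.base _* Y.presheaf)
  (hω : f.c ≫ ω = g.c)

def piece (U : S.Opens) (hU : IsAffineOpen U) : (g ⁻¹ᵁ U).toScheme ⟶ X :=
  (g ⁻¹ᵁ U).toSpecΓ ≫
    Spec.map ((ω.app (op U) : Γ(X, f ⁻¹ᵁ U) ⟶ Γ(Y, g ⁻¹ᵁ U))) ≫ (hU.preimage f).fromSpec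

theorem piece_res {V U : S.Opens} (hV : IsAffineOpen V) (hU : IsAffineOpen U) (h : V ≤ U) :
    Y.homOfLE (g.preimage_mono h) ≫ piece f g ω U hU = piece f g ω V hV := by
  simp only [piece]
  rw [← Scheme.Opens.toSpecΓ_SpecMap_presheaf_map_assoc, ← Spec.map_comp_assoc]
  have hn : (ω.app (op U) : Γ(X, f ⁻¹ᵁ U) ⟶ Γ(Y, g ⁻¹ᵁ U)) ≫
      Y.presheaf.map (homOfLE (g.preimage_mono h)).op =
      X.presheaf.map (homOfLE (f.preimage_mono h)).op ≫
        (ω.app (op V) : Γ(X, f ⁻¹ᵁ V) ⟶ Γ(Y, g ⁻¹ᵁ V)) :=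
    (ω.naturality (homOfLE h).op).symm
  rw [hn, Spec.map_comp_assoc, (hU.preimage f).map_fromSpec (hV.preimage f)]

include hω in
theorem piece_f (U : S.Opens) (hU : IsAffineOpen U) :
    piece f g ω U hU ≫ f = (g ⁻¹ᵁ U).ι ≫ g := by
  simp only [piece, Category.assoc]
  rw [← hU.SpecMap_appLE_fromSpec f (hU.preimage f) le_rfl, Scheme.Hom.appLE_eq_app,
    ← Spec.map_comp_assoc]
  have h1 : f.app U ≫ (ω.app (op U) : Γ(X, f ⁻¹ᵁ U) ⟶ Γ(Y, g ⁻¹ᵁ U)) = g.app U :=
    NatTrans.congr_app hω (op U)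
  rw [h1]
  simp

set_option backward.defeqAttrib.useBackward true in
set_option backward.isDefEq.respectTransparency false in
def lift : Y ⟶ X :=
  Scheme.OpenCover.glueMorphismsOfLocallyDirected
    ((Scheme.AffineZariskiSite.directedCover S).pullback₁ g)
    (fun U => (pullbackRestrictIsoRestrict g _).hom ≫ piece f g ω U.1 U.2)
    fun {U V : S.AffineZariskiSite} i => by
  have : (pullbackRestrictIsoRestrict g U.1).inv ≫
      Scheme.Cover.trans ((Scheme.AffineZariskiSite.directedCover S).pullback₁ g) i ≫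
      (pullbackRestrictIsoRestrict g V.1).hom = Y.homOfLE
        (g.preimage_mono (Scheme.AffineZariskiSite.toOpens_mono i.1.1)) := by
    rw [← cancel_mono (Scheme.Opens.ι _)]
    simp +instances [Scheme.Cover.trans, Scheme.Cover.locallyDirectedPullbackCover]
  rw [← Iso.inv_comp_eq, reassoc_of% this]
  exact piece_res f g ω U.2 V.2 (Scheme.AffineZariskiSite.toOpens_mono i.1.1)

set_option backward.isDefEq.respectTransparency.types false in
set_option backward.defeqAttrib.useBackward true in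
theorem ι_lift (U : S.Opens) (hU : IsAffineOpen U) :
    (g ⁻¹ᵁ U).ι ≫ lift f g ω = piece f g ω U hU := by
  rw [← cancel_epi (pullbackRestrictIsoRestrict g U).hom, ← Category.assoc]
  trans ((Scheme.AffineZariskiSite.directedCover S).pullback₁ g).f ⟨U, hU⟩ ≫ lift f g ω
  · congr 1; simp
  delta lift
  generalize_proofs
  apply Scheme.OpenCover.map_glueMorphismsOfLocallyDirected
  assumption

include hω in
theorem lift_f : lift f g ω ≫ f = g := by
  refine Scheme.Cover.hom_ext (Y.openCoverOfIsOpenCover _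
    (.comap (iSup_affineOpens_eq_top S) g.base.1)) _ _ fun U => ?_
  show (g ⁻¹ᵁ U.1).ι ≫ lift f g ω ≫ f = (g ⁻¹ᵁ U.1).ι ≫ g
  rw [← Category.assoc, ι_lift f g ω U.1 U.2, piece_f f g ω hω]

theorem ι_comp (h : Y ⟶ X) (w : h ≫ f = g) (U : S.Opens) (hU : IsAffineOpen U) :
    (g ⁻¹ᵁ U).ι ≫ h = piece f g (AffAlg.algHom f g h w) U hU := by
  have hle : g ⁻¹ᵁ U ≤ h ⁻¹ᵁ (f ⁻¹ᵁ U) := by subst w; exact le_rfl
  calc (g ⁻¹ᵁ U).ι ≫ h
      = h.resLE (f ⁻¹ᵁ U) (g ⁻¹ᵁ U) hle ≫ (f ⁻¹ᵁ U).ι := (Scheme.Hom.resLE_comp_ι _ _).symm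
    _ = h.resLE (f ⁻¹ᵁ U) (g ⁻¹ᵁ U) hle ≫
          (f ⁻¹ᵁ U).toSpecΓ ≫ (hU.preimage f).fromSpec := by
        rw [IsAffineOpen.toSpecΓ_fromSpec]
    _ = piece f g (AffAlg.algHom f g h w) U hU := by
        rw [← Category.assoc, ← Scheme.Opens.toSpecΓ_SpecMap_appLE, Category.assoc, piece,
          algHom_app]

theorem algOf_bijective : Function.Bijective (AffAlg.algOf f g) := by
  constructor
  · rintro ⟨h, w⟩ ⟨h', w'⟩ e
    have e' : AffAlg.algHom f g h w = AffAlg.algHom f g h' w' := congrArg Subtype.val e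
    refine Subtype.ext (Scheme.Cover.hom_ext (Y.openCoverOfIsOpenCover _
      (.comap (iSup_affineOpens_eq_top S) g.base.1)) _ _ fun U => ?_)
    exact (ι_comp f g h w U.1 U.2).trans (e' ▸ (ι_comp f g h' w' U.1 U.2).symm)
  · rintro ⟨ω, hω⟩
    have w := lift_f f g ω hω
    refine ⟨⟨lift f g ω, w⟩, Subtype.ext ?_⟩
    show AffAlg.algHom f g (lift f g ω) w = ω
    have haff : ∀ (U : S.Opens), IsAffineOpen U →
        (AffAlg.algHom f g (lift f g ω) w).app (op U) = ω.app (op U) := by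
      intro U hU
      have h1 := (ι_comp f g (lift f g ω) w U hU).symm.trans (ι_lift f g ω U hU)
      simp only [piece, ← Category.assoc] at h1
      exact eq_of_toSpecΓ_SpecMap ((cancel_mono _).1 h1)
    ext W x
    apply TopCat.Sheaf.eq_of_locally_eq'
      ((TopCat.Sheaf.pushforward CommRingCat.{u} g.base).obj Y.sheaf)
      (fun U : {U : S.affineOpens // U.1 ≤ W} => U.1.1) W (fun U => homOfLE U.2)
    · intro s hs
      obtain ⟨V, hV, hsV, hVW⟩ := Opens.isBasis_iff_nbhd.1 S.isBasis_affineOpens hs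
      exact Opens.mem_iSup.2 ⟨⟨⟨V, hV⟩, hVW⟩, hsV⟩
    · intro U
      have n1 := ConcreteCategory.congr_hom
        ((AffAlg.algHom f g (lift f g ω) w).naturality (homOfLE U.2).op) x
      have n2 := ConcreteCategory.congr_hom (ω.naturality (homOfLE U.2).op) x
      exact n1.symm.trans ((ConcreteCategory.congr_hom (haff U.1.1 U.1.2) _).trans n2)

end EGA2AlgOf
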