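import Mathlib
import Groth.Prelude.Def_AffAlg
import Groth.Prelude.Def_Coh
import Groth.Agent.EGA2Misc.AlgOf
import Groth.Agent.QCohBase.Localization
import Groth.Agent.QCohBase.Qcqs

/-!
# Affine morphisms: direct images detect isomorphisms
-/

noncomputable section

universe u

open CategoryTheory Limits AlgebraicGeometry Opposite TopologicalSpace

namespace EGA2AlgOf

variable {X Y Z S : Scheme.{u}}

theorem algHom_comp (f : X ⟶ S) (g : Y ⟶ S) (k : Z ⟶ S) (h : Y ⟶ X) (w : h ≫ f = g)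
    (h' : Z ⟶ Y) (w' : h' ≫ g = k) (w'' : (h' ≫ h) ≫ f = k) :
    AffAlg.algHom f k (h' ≫ h) w'' = AffAlg.algHom f g h w ≫ AffAlg.algHom g k h' w' := by
  refine NatTrans.ext (funext fun U => ?_)
  induction U using Opposite.rec with
  | op U =>
    rw [NatTrans.comp_app, algHom_app, algHom_app, algHom_app]
    exact (Scheme.Hom.appLE_comp_appLE _ _ _ _ _ _ _).symm

theorem algHom_id (f : X ⟶ S) (w : 𝟙 X ≫ f = f) : AffAlg.algHom f f (𝟙 X) w = 𝟙 _ := by
  refine NatTrans.ext (funext fun U => ?_)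
  induction U using Opposite.rec with
  | op U =>
    rw [algHom_app]
    exact X.presheaf.map_id _

theorem isIso_iff_algHom (f : X ⟶ S) [IsAffineHom f] (g : Y ⟶ S) [IsAffineHom g]
    (h : Y ⟶ X) (w : h ≫ f = g) : IsIso h ↔ IsIso (AffAlg.algHom f g h w) := by
  constructor
  · intro hh
    have w' : inv h ≫ g = f := by rw [IsIso.inv_comp_eq, w]
    refine ⟨⟨AffAlg.algHom g f (inv h) w', ?_, ?_⟩⟩
    · rw [← algHom_comp f g f h w (inv h) w' (by rw [IsIso.inv_hom_id, Category.id_comp])]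
      simp only [IsIso.inv_hom_id]
      exact algHom_id f _
    · rw [← algHom_comp g f g (inv h) w' h w (by rw [IsIso.hom_inv_id, Category.id_comp])]
      simp only [IsIso.hom_inv_id]
      exact algHom_id g _
  · intro hh
    have hω : g.c ≫ inv (AffAlg.algHom f g h w) = f.c := by
      rw [IsIso.comp_inv_eq, AffAlg.algHom_comm]
    obtain ⟨⟨k, wk⟩, hk⟩ := (algOf_bijective g f).2 ⟨inv (AffAlg.algHom f g h w), hω⟩
    have hk' : AffAlg.algHom g f k wk = inv (AffAlg.algHom f g h w) := congrArg Subtype.val hk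
    have e1 : k ≫ h = 𝟙 X := by
      have w2 : (k ≫ h) ≫ f = f := by rw [Category.assoc, w, wk]
      refine congrArg Subtype.val ((algOf_bijective f f).1 (a₁ := ⟨k ≫ h, w2⟩)
        (a₂ := ⟨𝟙 X, Category.id_comp f⟩) (Subtype.ext ?_))
      show AffAlg.algHom f f (k ≫ h) w2 = AffAlg.algHom f f (𝟙 X) (Category.id_comp f)
      rw [algHom_comp f g f h w k wk w2, algHom_id, hk', IsIso.hom_inv_id]
    have e2 : h ≫ k = 𝟙 Y := by
      have w2 : (h ≫ k) ≫ g = g := by rw [Category.assoc, wk, w]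
      refine congrArg Subtype.val ((algOf_bijective g g).1 (a₁ := ⟨h ≫ k, w2⟩)
        (a₂ := ⟨𝟙 Y, Category.id_comp g⟩) (Subtype.ext ?_))
      show AffAlg.algHom g g (h ≫ k) w2 = AffAlg.algHom g g (𝟙 Y) (Category.id_comp g)
      rw [algHom_comp g f g k wk h w w2, algHom_id, hk', IsIso.inv_hom_id]
    exact ⟨⟨k, e2, e1⟩⟩

open Groth.Agent.QCohBase in
theorem app_bijective_basicOpen {M N : X.Modules} [M.IsQuasicoherent] [N.IsQuasicoherent]
    (φ : M ⟶ N) {W : X.Opens} (hW : IsAffineOpen W) (hb : Function.Bijective (φ.app W))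
    (r : Γ(X, W)) : Function.Bijective (φ.app (X.basicOpen r)) := by
  have hle : X.basicOpen r ≤ W := X.basicOpen_le r
  have hnat : ∀ y, φ.app (X.basicOpen r) (mres M hle y) = mres N hle (φ.app W y) := fun y =>
    ConcreteCategory.congr_hom (φ.mapPresheaf.naturality (homOfLE hle).op) y
  have hu : IsUnit (ores hle r) := RingedSpace.isUnit_res_basicOpen _ r
  constructor
  · rw [injective_iff_map_eq_zero]
    intro x hx
    obtain ⟨n, y, hy⟩ := exists_pow_smul_eq_mres M hW r rfl hle x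
    have h1 : mres N hle (φ.app W y) = 0 := by
      rw [← hnat, hy, Scheme.Modules.Hom.app_smul, hx, smul_zero]
    obtain ⟨m, hm⟩ := exists_pow_smul_eq_zero N hW r rfl hle _ h1
    have h2 : r ^ m • y = 0 := hb.1 (by rw [Scheme.Modules.Hom.app_smul, hm, map_zero])
    have h3 := congrArg (mres M hle) h2
    rw [mres_smul, hy, map_zero, smul_smul, map_pow, ← pow_add] at h3
    exact ((hu.pow _).smul_eq_zero).1 h3
  · intro z
    obtain ⟨n, y, hy⟩ := exists_pow_smul_eq_mres N hW r rfl hle z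
    obtain ⟨x, rfl⟩ := hb.2 y
    refine ⟨((hu.pow n).unit⁻¹ : (Γ(X, X.basicOpen r))ˣ).1 • mres M hle x, ?_⟩
    rw [Scheme.Modules.Hom.app_smul, hnat, hy, smul_smul, IsUnit.val_inv_mul, one_smul]

/-- direct image along an affine morphism reflects isomorphisms of quasi-coherent modules -/
theorem isIso_of_app_preimage (f : X ⟶ S) [IsAffineHom f] {M N : X.Modules}
    [M.IsQuasicoherent] [N.IsQuasicoherent] (φ : M ⟶ N)
    (h : ∀ U : S.Opens, IsAffineOpen U → Function.Bijective (φ.app (f ⁻¹ᵁ U))) : IsIso φ := by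
  let B := {W : X.Opens // Function.Bijective (φ.app W)}
  have hcov : ∀ V : X.Opens, V ≤ ⨆ W : {W : B // W.1 ≤ V}, W.1.1 := by
    intro V x hx
    obtain ⟨U, hU, hxU, -⟩ := Opens.isBasis_iff_nbhd.1 S.isBasis_affineOpens
      (show f.base x ∈ (⊤ : S.Opens) from trivial)
    obtain ⟨r, hrV, hxr⟩ := (hU.preimage f).exists_basicOpen_le (V := V) ⟨x, hx⟩ hxU
    exact Opens.mem_iSup.2
      ⟨⟨⟨_, app_bijective_basicOpen φ (hU.preimage f) (h U hU) r⟩, hrV⟩, hxr⟩
  have nat : ∀ {W V : X.Opens} (e : W ≤ V) (s : Γ(M, V)),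
      φ.app W (M.presheaf.map (homOfLE e).op s) = N.presheaf.map (homOfLE e).op (φ.app V s) :=
    fun e s => ConcreteCategory.congr_hom (φ.mapPresheaf.naturality (homOfLE e).op) s
  have hinj : ∀ V : X.Opens, Function.Injective (φ.app V) := fun V a b hab =>
    TopCat.Sheaf.eq_of_locally_eq' ⟨M.presheaf, M.isSheaf⟩ (fun W : {W : B // W.1 ≤ V} => W.1.1)
      V (fun W => homOfLE W.2) (hcov V) a b fun W => W.1.2.1 <|
        (nat W.2 a).trans ((congrArg _ hab).trans (nat W.2 b).symm)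
  refine Scheme.Modules.Hom.isIso_iff_isIso_app.mpr fun V => ?_
  refine (ConcreteCategory.isIso_iff_bijective _).2 ⟨hinj V, fun t => ?_⟩
  choose σ hσ using fun W : {W : B // W.1 ≤ V} => W.1.2.2 (N.presheaf.map (homOfLE W.2).op t)
  obtain ⟨s, hs, -⟩ := TopCat.Sheaf.existsUnique_gluing' ⟨M.presheaf, M.isSheaf⟩
    (fun W : {W : B // W.1 ≤ V} => W.1.1) V (fun W => homOfLE W.2) (hcov V) σ (fun W W' => by
      apply hinj
      refine (nat _ (σ W)).trans ?_
      refine Eq.trans ?_ (nat _ (σ W')).symm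
      refine (congrArg _ (hσ W)).trans ?_
      refine Eq.trans ?_ (congrArg _ (hσ W')).symm
      rw [← ConcreteCategory.comp_apply, ← ConcreteCategory.comp_apply, ← Functor.map_comp,
        ← Functor.map_comp]
      rfl)
  refine ⟨s, TopCat.Sheaf.eq_of_locally_eq' ⟨N.presheaf, N.isSheaf⟩
    (fun W : {W : B // W.1 ≤ V} => W.1.1) V (fun W => homOfLE W.2) (hcov V) _ _ fun W => ?_⟩
  exact (nat W.2 s).symm.trans ((congrArg _ (hs W)).trans (hσ W))

theorem pair_isIso_iff (gX : X ⟶ S) [IsAffineHom gX] (gY : Y ⟶ S) [IsAffineHom gY]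
    (h : Y ⟶ X) (hh : h ≫ gX = gY) (F : X.Modules) (G : Y.Modules)
    (hF : Coh.IsQCoh F) (hG : Coh.IsQCoh G) (v : F ⟶ (Scheme.Modules.pushforward h).obj G) :
    (IsIso h ∧ IsIso v) ↔
      (IsIso (AffAlg.algHom gX gY h hh) ∧ IsIso ((Scheme.Modules.pushforward gX).map v)) := by
  constructor
  · rintro ⟨h1, h2⟩
    exact ⟨(isIso_iff_algHom gX gY h hh).1 h1, inferInstance⟩
  · rintro ⟨h1, h2⟩
    have hiso := (isIso_iff_algHom gX gY h hh).2 h1
    refine ⟨hiso, ?_⟩
    haveI : F.IsQuasicoherent := hF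
    haveI : G.IsQuasicoherent := hG
    haveI : ((Scheme.Modules.pushforward h).obj G).IsQuasicoherent :=
      Groth.Agent.QCohBase.isQuasicoherent_pushforward G h
    exact isIso_of_app_preimage gX v fun U _ => (ConcreteCategory.isIso_iff_bijective _).1
      (Scheme.Modules.Hom.isIso_iff_isIso_app.mp h2 U)

end EGA2AlgOf
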