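import Mathlib
import Groth.Prelude.Def_Cone
import Groth.Prelude.Def_PCone

/-!
# Retractions of pointed cones onto `Proj`
-/

noncomputable section

universe u

open CategoryTheory CategoryTheory.Limits AlgebraicGeometry HomogeneousLocalization

namespace Groth.Agent.EGA2Misc

variable {R A : Type u} [CommRing R] [CommRing A] [Algebra R A] (𝒜 : ℕ → Submodule R A) [GradedAlgebra 𝒜]

theorem specMap_awayι_of_eq {d : ℕ} (hd : 0 < d) {f y : A} (e : y = f) (hf : f ∈ 𝒜 d) (hy : y ∈ 𝒜 d)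
    (ρ : Away 𝒜 f →+* Away 𝒜 y)
    (hρ : ∀ (n : ℕ) (a : A) (ha : a ∈ 𝒜 (n • d)), ρ (Away.mk 𝒜 hf n a ha) = Away.mk 𝒜 hy n a ha) :
    Spec.map (CommRingCat.ofHom ρ) ≫ Proj.awayι 𝒜 f hf hd = Proj.awayι 𝒜 y hy hd := by
  subst e
  have : ρ = RingHom.id _ := by
    refine RingHom.ext fun q => ?_
    obtain ⟨n, a, ha, rfl⟩ := Away.mk_surjective 𝒜 hf q
    exact hρ n a ha
  rw [this, CommRingCat.ofHom_id, Spec.map_id, Category.id_comp]

theorem projectiveCone_retraction {B : Type u} [CommRing B] [Algebra R B] (ℬ : ℕ → Submodule R B)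
    [GradedAlgebra ℬ] (φ : 𝒜 →+*ᵍ ℬ) (ψ : ℬ →+*ᵍ 𝒜) (hψφ : ∀ a : A, ψ (φ a) = a)
    (hψ : HomogeneousIdeal.irrelevant 𝒜 ≤ (HomogeneousIdeal.irrelevant ℬ).map ψ)
    (p : (PCone.dom φ : Scheme.{u}) ⟶ Proj 𝒜) (hp : ∀ (d : ℕ) (f : A) (hd : 0 < d) (hf : f ∈ 𝒜 d),
        PCone.chart φ hf hd ≫ p =
          Spec.map (CommRingCat.ofHom (Away.map φ f)) ≫ Proj.awayι 𝒜 f hf hd) :
    Surjective p ∧ ∃ j : Proj 𝒜 ⟶ (PCone.dom φ : Scheme.{u}),
      j ≫ (PCone.dom φ).ι = Proj.map ψ hψ ∧ j ≫ p = 𝟙 (Proj 𝒜) := by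
  have hr : Set.range (Proj.map ψ hψ).base ⊆ Set.range (PCone.dom φ).ι.base := by
    rintro _ ⟨x, rfl⟩
    rw [Scheme.Opens.range_ι]
    let c := (Proj.affineOpenCover 𝒜).idx x
    obtain ⟨y, hy⟩ := (Proj.affineOpenCover 𝒜).covers x
    refine TopologicalSpace.Opens.mem_iSup.2 ⟨⟨c.2, c.1, c.1.2, c.2.2⟩, ?_⟩
    show x ∈ Proj.map ψ hψ ⁻¹ᵁ Proj.basicOpen ℬ (φ c.2)
    rw [Proj.map_preimage_basicOpen, hψφ, ← Proj.opensRange_awayι 𝒜 c.2.1 c.2.2 c.1.2]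
    exact ⟨y, hy⟩
  let j := IsOpenImmersion.lift (PCone.dom φ).ι (Proj.map ψ hψ) hr
  have hj : j ≫ (PCone.dom φ).ι = Proj.map ψ hψ := IsOpenImmersion.lift_fac _ _ _
  have hjp : j ≫ p = 𝟙 (Proj 𝒜) := by
    refine (Proj.affineOpenCover 𝒜).openCover.hom_ext _ _ fun c => ?_
    show Proj.awayι 𝒜 (c.2 : A) c.2.2 c.1.2 ≫ j ≫ p = Proj.awayι 𝒜 (c.2 : A) c.2.2 c.1.2 ≫ 𝟙 _
    rw [Category.comp_id]
    have key : ∀ (y : A) (hy : y ∈ 𝒜 c.1) (e : y = (c.2 : A)),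
        Proj.awayι 𝒜 y hy c.1.2 ≫ j ≫ p = Proj.awayι 𝒜 y hy c.1.2 →
          Proj.awayι 𝒜 (c.2 : A) c.2.2 c.1.2 ≫ j ≫ p = Proj.awayι 𝒜 (c.2 : A) c.2.2 c.1.2 := by
      intro y hy e
      subst e
      exact id
    refine key (ψ (φ c.2)) (ψ.map_mem (φ.map_mem c.2.2)) (hψφ _) ?_
    have h1 : Proj.awayι 𝒜 (ψ (φ c.2)) (ψ.map_mem (φ.map_mem c.2.2)) c.1.2 ≫ j =
        Spec.map (CommRingCat.ofHom (Away.map ψ (φ c.2))) ≫ PCone.chart φ c.2.2 c.1.2 := by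
      rw [← cancel_mono (PCone.dom φ).ι, Category.assoc, hj, Category.assoc, PCone.chart,
        IsOpenImmersion.lift_fac]
      exact Proj.awayι_comp_map ψ hψ c.1.2 _ (φ.map_mem c.2.2)
    refine ((Category.assoc _ _ _).symm.trans ((congrArg (· ≫ p) h1).trans
      ((Category.assoc _ _ _).trans (congrArg (_ ≫ ·) (hp _ _ c.1.2 c.2.2))))).trans ?_
    refine ((Category.assoc _ _ _).symm.trans (congrArg (· ≫ _) (Spec.map_comp _ _).symm)).trans ?_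
    rw [← CommRingCat.ofHom_comp]
    refine specMap_awayι_of_eq 𝒜 c.1.2 (hψφ _) c.2.2 _ _ fun n a ha => ?_
    rw [RingHom.comp_apply, Away.map_mk, Away.map_mk]
    congr 1
    exact hψφ a
  refine ⟨⟨fun x => ⟨j x, ?_⟩⟩, j, hj, hjp⟩
  rw [← Scheme.Hom.comp_apply, hjp]
  rfl

theorem pointedCone_preimage (π : (Cone.pointed 𝒜 : Scheme.{u}) ⟶ Proj 𝒜)
    (hπ : ∀ (d : ℕ) (f : A) (hd : 0 < d) (hf : f ∈ 𝒜 d),
        Cone.chart hf hd ≫ π =
          Spec.map (CommRingCat.ofHom (algebraMap (Away 𝒜 f) (Localization.Away f))) ≫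
            Proj.awayι 𝒜 f hf hd) {d : ℕ} {f : A} (hd : 0 < d) (hf : f ∈ 𝒜 d) :
    π ⁻¹ᵁ Proj.basicOpen 𝒜 f = (Cone.pointed 𝒜).ι ⁻¹ᵁ Cone.coneOpen f := by
  ext x
  -- a chart containing `x`
  have hne : ¬ ((HomogeneousIdeal.irrelevant 𝒜).toIdeal : Set A) ⊆ (x.1.asIdeal : Set A) := x.2
  obtain ⟨e, he, he0, hex⟩ : ∃ (e : ℕ) (g' : A), 0 < e ∧ g' ∈ 𝒜 e ∧ g' ∉ x.1.asIdeal := by
    by_contra hall
    push Not at hall
    exact hne ((HomogeneousIdeal.toIdeal_irrelevant_le _).2 fun i hi a ha => hall i a hi ha)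
  obtain ⟨hge, hgx'⟩ := hex
  have hxr : x.1 ∈ Set.range (Spec.map (CommRingCat.ofHom (algebraMap A (Localization.Away he)))).base := by
    exact (PrimeSpectrum.localization_away_comap_range (Localization.Away he) he).symm ▸ hgx'
  obtain ⟨y, hy⟩ := hxr
  have hyx : Cone.chart hge he0 y = x := by
    refine (Cone.pointed 𝒜).ι.isOpenEmbedding.injective ?_
    rw [← Scheme.Hom.comp_apply, Cone.chart, IsOpenImmersion.lift_fac]
    exact hy
  subst hyx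
  show π (Cone.chart hge he0 y) ∈ Proj.basicOpen 𝒜 f ↔ _
  rw [← Scheme.Hom.comp_apply, hπ e he he0 hge, Scheme.Hom.comp_apply]
  show Spec.map _ y ∈ Proj.awayι 𝒜 he hge he0 ⁻¹ᵁ Proj.basicOpen 𝒜 f ↔ (Cone.chart hge he0 ≫ (Cone.pointed 𝒜).ι) y ∈ Cone.coneOpen f
  rw [Proj.awayι_preimage_basicOpen 𝒜 hge he0 hf hd, Cone.chart, IsOpenImmersion.lift_fac]
  show algebraMap (Away 𝒜 he) (Localization.Away he) (Away.isLocalizationElem hge hf) ∉ y.asIdeal ↔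
    algebraMap A (Localization.Away he) f ∉ y.asIdeal
  refine not_congr ?_
  have hu : ∀ k : ℕ, algebraMap A (Localization.Away he) (he ^ k) ∉ y.asIdeal := fun k hk =>
    y.isPrime.ne_top (Ideal.eq_top_of_isUnit_mem _ hk (by
      rw [map_pow]; exact (IsLocalization.Away.algebraMap_isUnit he).pow k))
  have hval : algebraMap (Away 𝒜 he) (Localization.Away he) (Away.isLocalizationElem hge hf) *
      algebraMap A (Localization.Away he) (he ^ d) = algebraMap A (Localization.Away he) f ^ e := by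
    rw [HomogeneousLocalization.algebraMap_apply, Away.isLocalizationElem, Away.val_mk,
      ← Localization.mk_one_eq_algebraMap, ← Localization.mk_one_eq_algebraMap, Localization.mk_mul, mul_one,
      Localization.mk_pow, one_pow, Localization.mk_eq_mk_iff, Localization.r_iff_exists]
    exact ⟨1, by simp; ring⟩
  constructor
  · intro h
    refine y.isPrime.mem_of_pow_mem e ?_
    rw [← hval]
    exact Ideal.mul_mem_right _ _ h
  · intro h
    have := Ideal.pow_mem_of_mem _ h e he0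
    rw [← hval] at this
    exact (y.isPrime.mem_or_mem this).resolve_right (hu d)

theorem homogeneous_prime_ext {p : ProjectiveSpectrum 𝒜} {q : Ideal A} [hq : q.IsPrime]
    (hne : ¬ (HomogeneousIdeal.irrelevant 𝒜).toIdeal ≤ q)
    (h : ∀ (d : ℕ) (f : A), 0 < d → f ∈ 𝒜 d → (f ∈ p.asHomogeneousIdeal.toIdeal ↔ f ∈ q)) :
    p.asHomogeneousIdeal = q.homogeneousCore 𝒜 := by
  classical
  obtain ⟨e, g, he, hg, hgq⟩ : ∃ (e : ℕ) (g : A), 0 < e ∧ g ∈ 𝒜 e ∧ g ∉ q := by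
    by_contra hall
    push Not at hall
    exact hne ((HomogeneousIdeal.toIdeal_irrelevant_le _).2 fun i hi x hx => hall i x hi hx)
  haveI := p.isPrime
  have hgp : g ∉ p.asHomogeneousIdeal.toIdeal := fun hh => hgq ((h e g he hg).1 hh)
  have h0 : ∀ (d : ℕ) (a : A), a ∈ 𝒜 d → (a ∈ p.asHomogeneousIdeal.toIdeal ↔ a ∈ q) := by
    intro d a ha
    have := h (d + e) (a * g) (by omega) (SetLike.mul_mem_graded ha hg)
    exact ⟨fun ha' => (hq.mem_or_mem (this.1 (Ideal.mul_mem_right _ _ ha'))).resolve_right hgq,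
      fun ha' => (p.isPrime.mem_or_mem (this.2 (Ideal.mul_mem_right _ _ ha'))).resolve_right hgp⟩
  refine HomogeneousIdeal.ext (le_antisymm ?_ ?_)
  · intro a ha
    rw [← DirectSum.sum_support_decompose 𝒜 a]
    refine Ideal.sum_mem _ fun i _ => ?_
    exact Ideal.mem_homogeneousCore_of_homogeneous_of_mem ⟨i, SetLike.coe_mem _⟩
      ((h0 i _ (SetLike.coe_mem _)).1 (p.asHomogeneousIdeal.isHomogeneous i ha))
  · intro a ha
    rw [← DirectSum.sum_support_decompose 𝒜 a]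
    refine Ideal.sum_mem _ fun i _ => ?_
    exact (h0 i _ (SetLike.coe_mem _)).2
      (Ideal.toIdeal_homogeneousCore_le 𝒜 q ((q.homogeneousCore 𝒜).isHomogeneous i ha))

theorem pointedCone_retraction (π : (Cone.pointed 𝒜 : Scheme.{u}) ⟶ Proj 𝒜)
    (hπ : ∀ (d : ℕ) (f : A) (hd : 0 < d) (hf : f ∈ 𝒜 d),
        Cone.chart hf hd ≫ π =
          Spec.map (CommRingCat.ofHom (algebraMap (Away 𝒜 f) (Localization.Away f))) ≫
            Proj.awayι 𝒜 f hf hd) :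
    IsAffineHom π ∧ Surjective π ∧
      (∀ (d : ℕ) (f : A), 0 < d → f ∈ 𝒜 d →
        π ⁻¹ᵁ Proj.basicOpen 𝒜 f = (Cone.pointed 𝒜).ι ⁻¹ᵁ Cone.coneOpen f) ∧
      ∀ p : (Cone.pointed 𝒜 : Scheme.{u}),
        (π.base p).asHomogeneousIdeal = (((Cone.pointed 𝒜).ι.base p).asIdeal).homogeneousCore 𝒜 := by
  have hpre := fun (d : ℕ) (f : A) (hd : 0 < d) (hf : f ∈ 𝒜 d) => pointedCone_preimage 𝒜 π hπ hd hf
  have hpt : ∀ p : (Cone.pointed 𝒜 : Scheme.{u}),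
      (π.base p).asHomogeneousIdeal = (((Cone.pointed 𝒜).ι.base p).asIdeal).homogeneousCore 𝒜 := by
    intro p
    haveI : ((Cone.pointed 𝒜).ι.base p).asIdeal.IsPrime := ((Cone.pointed 𝒜).ι.base p).isPrime
    refine homogeneous_prime_ext 𝒜 (fun hle => (show ¬ ((HomogeneousIdeal.irrelevant 𝒜).toIdeal : Set A) ⊆ (p.1.asIdeal : Set A) from p.2) hle) fun d f hd hf => ?_
    have := SetLike.ext_iff.1 (hpre d f hd hf) p
    exact not_iff_not.1 this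
  refine ⟨?_, ⟨fun x => ?_⟩, hpre, hpt⟩
  · refine isAffineHom_of_forall_exists_isAffineOpen _ fun x => ?_
    let c := (Proj.affineOpenCover 𝒜).idx x
    obtain ⟨y, hy⟩ := (Proj.affineOpenCover 𝒜).covers x
    refine ⟨Proj.basicOpen 𝒜 (c.2 : A), ?_, Proj.isAffineOpen_basicOpen 𝒜 _ c.2.2 c.1.2, ?_⟩
    · rw [← Proj.opensRange_awayι 𝒜 c.2.1 c.2.2 c.1.2]
      exact ⟨y, hy⟩
    · rw [hpre _ _ c.1.2 c.2.2, ← Scheme.Hom.isAffineOpen_iff_of_isOpenImmersion (Cone.pointed 𝒜).ι,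
        Scheme.Hom.image_preimage_eq_opensRange_inf, Scheme.Opens.opensRange_ι]
      have hle : Cone.coneOpen (c.2 : A) ≤ Cone.pointed 𝒜 := fun q hq hmem =>
        hq (hmem (HomogeneousIdeal.mem_irrelevant_of_mem 𝒜 c.1.2 c.2.2))
      rw [inf_eq_right.2 hle]
      exact IsAffineOpen.Spec_basicOpen (R := CommRingCat.of A) (c.2 : A)
  · let q : PrimeSpectrum A := ⟨x.asHomogeneousIdeal.toIdeal, x.isPrime⟩
    have hq : q ∈ Cone.pointed 𝒜 := fun hle => x.not_irrelevant_le hle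
    refine ⟨⟨q, hq⟩, ProjectiveSpectrum.ext ?_⟩
    rw [hpt ⟨q, hq⟩]
    exact HomogeneousIdeal.toIdeal_homogeneousCore_eq_self _

end Groth.Agent.EGA2Misc
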