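import Mathlib
import Groth.Prelude.Def_PCone

/-!
# The morphism of `Proj`'s induced by a graded homomorphism on its open of definition
-/

noncomputable section

universe u

open CategoryTheory CategoryTheory.Limits AlgebraicGeometry HomogeneousLocalization

namespace Groth.Agent.EGA2Misc

section general

variable {A B σ τ : Type u} [CommRing A] [SetLike σ A] [AddSubgroupClass σ A]
  [CommRing B] [SetLike τ B] [AddSubgroupClass τ B]
  {𝒜 : ℕ → σ} {ℬ : ℕ → τ} [GradedRing 𝒜] [GradedRing ℬ] (φ : 𝒜 →+*ᵍ ℬ)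

theorem awayMap_map {d e : ℕ} {f g x : A} (hf : f ∈ 𝒜 d) (hg : g ∈ 𝒜 e) (hx : x = f * g) :
    (awayMap ℬ (φ.map_mem hg) (show φ x = φ f * φ g by rw [hx, map_mul])).comp (Away.map φ f) =
      (Away.map φ x).comp (awayMap 𝒜 hg hx) := by
  refine RingHom.ext fun q => ?_
  obtain ⟨n, a, ha, rfl⟩ := Away.mk_surjective 𝒜 hf q
  refine val_injective _ ?_
  rw [RingHom.comp_apply, RingHom.comp_apply, Away.map_mk]
  have ha' : a * g ^ n ∈ 𝒜 (n • (d + e)) := by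
    rw [smul_add]; exact SetLike.mul_mem_graded ha (SetLike.pow_mem_graded n hg)
  have hxmem : x ∈ 𝒜 (d + e) := hx ▸ SetLike.mul_mem_graded hf hg
  have e1 : awayMap 𝒜 hg hx (Away.mk 𝒜 hf n a ha) = Away.mk 𝒜 hxmem n (a * g ^ n) ha' := by
    refine val_injective _ ?_
    rw [Away.val_mk]
    exact val_awayMap_mk (hg := hg) (hx := hx) ..
  rw [e1, Away.map_mk, Away.val_mk]
  refine (val_awayMap_mk (hg := φ.map_mem hg) (hx := show φ x = φ f * φ g by rw [hx, map_mul]) ..).trans ?_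
  simp [map_mul, map_pow]

theorem map_glue_compat {d e : ℕ} (hd : 0 < d) (he : 0 < e) {f g : A} (hf : f ∈ 𝒜 d) (hg : g ∈ 𝒜 e) :
    pullback.fst (Proj.awayι ℬ (φ f) (φ.map_mem hf) hd) (Proj.awayι ℬ (φ g) (φ.map_mem hg) he) ≫
        Spec.map (CommRingCat.ofHom (Away.map φ f)) ≫ Proj.awayι 𝒜 f hf hd =
      pullback.snd (Proj.awayι ℬ (φ f) (φ.map_mem hf) hd) (Proj.awayι ℬ (φ g) (φ.map_mem hg) he) ≫
        Spec.map (CommRingCat.ofHom (Away.map φ g)) ≫ Proj.awayι 𝒜 g hg he := by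
  have hx : φ (f * g) = φ f * φ g := map_mul φ f g
  refine (cancel_epi (Proj.pullbackAwayιIso ℬ (φ.map_mem hf) hd (φ.map_mem hg) he hx).inv).1 ?_
  have k1 := congrArg (· ≫ (Spec.map (CommRingCat.ofHom (Away.map φ f)) ≫ Proj.awayι 𝒜 f hf hd))
    (Proj.pullbackAwayιIso_inv_fst ℬ (φ.map_mem hf) hd (φ.map_mem hg) he hx)
  have k2 := congrArg (· ≫ (Spec.map (CommRingCat.ofHom (Away.map φ g)) ≫ Proj.awayι 𝒜 g hg he))
    (Proj.pullbackAwayιIso_inv_snd ℬ (φ.map_mem hf) hd (φ.map_mem hg) he hx)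
  refine ((Category.assoc _ _ _).symm.trans k1).trans (Eq.trans ?_ ((Category.assoc _ _ _).symm.trans k2).symm)
  rw [← Spec.map_comp_assoc, ← Spec.map_comp_assoc, ← CommRingCat.ofHom_comp, ← CommRingCat.ofHom_comp]
  have h1 := awayMap_map φ hf hg (rfl : f * g = f * g)
  have h2 := awayMap_map φ hg hf (mul_comm f g : f * g = g * f)
  rw [h1, CommRingCat.ofHom_comp, Spec.map_comp_assoc, Proj.SpecMap_awayMap_awayι]
  conv_rhs => rw [h2, CommRingCat.ofHom_comp, Spec.map_comp_assoc, Proj.SpecMap_awayMap_awayι]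
  have key : ∀ (k k' : ℕ) (hk : f * g ∈ 𝒜 k) (h0 : 0 < k) (hk' : f * g ∈ 𝒜 k') (h0' : 0 < k'), k = k' →
      Proj.awayι 𝒜 (f * g) hk h0 = Proj.awayι 𝒜 (f * g) hk' h0' := by
    intro k k' hk h0 hk' h0' e
    subst e
    rfl
  exact congrArg _ (key _ _ _ _ _ _ (add_comm d e))

end general

theorem existsUnique_proj_map_on_dom {R A : Type u} [CommRing R] [CommRing A] [Algebra R A]
    (𝒜 : ℕ → Submodule R A) [GradedAlgebra 𝒜]
    {B : Type u} [CommRing B] [Algebra R B] (ℬ : ℕ → Submodule R B) [GradedAlgebra ℬ] (φ : 𝒜 →+*ᵍ ℬ) :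
    ∃! p : (PCone.dom φ : Scheme.{u}) ⟶ Proj 𝒜,
      ∀ (d : ℕ) (f : A) (hd : 0 < d) (hf : f ∈ 𝒜 d),
        PCone.chart φ hf hd ≫ p =
          Spec.map (CommRingCat.ofHom (Away.map φ f)) ≫ Proj.awayι 𝒜 f hf hd := by
  let I := {x : ℕ × A // 0 < x.1 ∧ x.2 ∈ 𝒜 x.1}
  let fc : ∀ i : I, Spec (CommRingCat.of (Away ℬ (φ i.1.2))) ⟶ (PCone.dom φ : Scheme.{u}) := fun i =>
    PCone.chart φ i.2.2 i.2.1
  have hfc : ∀ i : I, fc i ≫ (PCone.dom φ).ι = Proj.awayι ℬ (φ i.1.2) (φ.map_mem i.2.2) i.2.1 :=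
    fun i => IsOpenImmersion.lift_fac _ _ _
  have hoi : ∀ i, IsOpenImmersion (fc i) := fun i =>
    haveI : IsOpenImmersion (fc i ≫ (PCone.dom φ).ι) := by rw [hfc i]; infer_instance
    IsOpenImmersion.of_comp (fc i) (PCone.dom φ).ι
  have hcov : ∀ x : (PCone.dom φ : Scheme.{u}), ∃ i y, fc i y = x := by
    intro x
    obtain ⟨⟨f, d, hd, hf⟩, hx⟩ := TopologicalSpace.Opens.mem_iSup.1 x.2
    rw [← Proj.opensRange_awayι ℬ (φ f) (φ.map_mem hf) hd] at hx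
    obtain ⟨y, hy⟩ := hx
    refine ⟨⟨(d, f), hd, hf⟩, y, (PCone.dom φ).ι.isOpenEmbedding.injective ?_⟩
    rw [← Scheme.Hom.comp_apply, hfc]
    exact hy
  let 𝒰 : (PCone.dom φ : Scheme.{u}).OpenCover :=
    Scheme.Cover.mkOfCovers I (fun i => Spec (CommRingCat.of (Away ℬ (φ i.1.2)))) fc hcov hoi
  refine ⟨𝒰.glueMorphisms (fun i : I =>
    Spec.map (CommRingCat.ofHom (Away.map φ i.1.2)) ≫ Proj.awayι 𝒜 i.1.2 i.2.2 i.2.1) ?_,
    fun d f hd hf => ?_, fun p hp => ?_⟩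
  · intro (i : I) (j : I)
    let t : pullback (fc i) (fc j) ⟶ pullback (Proj.awayι ℬ (φ i.1.2) (φ.map_mem i.2.2) i.2.1)
        (Proj.awayι ℬ (φ j.1.2) (φ.map_mem j.2.2) j.2.1) :=
      pullback.lift (pullback.fst _ _) (pullback.snd _ _) (by rw [← hfc i, ← hfc j, pullback.condition_assoc])
    show pullback.fst (fc i) (fc j) ≫ _ = pullback.snd (fc i) (fc j) ≫ _
    rw [← show t ≫ pullback.fst _ _ = pullback.fst (fc i) (fc j) from pullback.lift_fst _ _ _,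
      ← show t ≫ pullback.snd _ _ = pullback.snd (fc i) (fc j) from pullback.lift_snd _ _ _,
      Category.assoc, Category.assoc]
    exact congrArg (t ≫ ·) (map_glue_compat φ i.2.1 j.2.1 i.2.2 j.2.2)
  · exact 𝒰.ι_glueMorphisms _ _ (⟨(d, f), hd, hf⟩ : I)
  · refine 𝒰.hom_ext _ _ fun (i : I) => Eq.trans (hp i.1.1 i.1.2 i.2.1 i.2.2) ?_
    symm
    exact 𝒰.ι_glueMorphisms _ _ i

end Groth.Agent.EGA2Misc
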