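import Groth.Agent.EGA2Misc.RelProjBasic

/-! Morphisms of relative Proj induced by graded homomorphisms. -/

set_option autoImplicit false

universe u

open CategoryTheory CategoryTheory.Limits AlgebraicGeometry Opposite DirectSum HomogeneousLocalization
open scoped HomogeneousIdeal

namespace Groth.Agent.EGA2Misc

section Ring

variable {A B σ τ : Type u} [CommRing A] [CommRing B] [SetLike σ A] [AddSubgroupClass σ A]
  [SetLike τ B] [AddSubgroupClass τ B] {𝒜 : ℕ → σ} [GradedRing 𝒜] {ℬ : ℕ → τ} [GradedRing ℬ]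
  (φ : 𝒜 →+*ᵍ ℬ) (hφ : ℬ₊ ≤ (𝒜₊).map φ)

/-- The degree-zero component of a graded homomorphism. -/
def zeroPart : 𝒜 0 →+* ℬ 0 where
  toFun a := ⟨φ a.1, φ.map_mem a.2⟩
  map_one' := Subtype.ext (map_one φ)
  map_mul' a b := Subtype.ext (map_mul φ a.1 b.1)
  map_zero' := Subtype.ext (map_zero φ)
  map_add' a b := Subtype.ext (map_add φ a.1 b.1)

theorem map_toSpecZero : Proj.map φ hφ ≫ Proj.toSpecZero 𝒜 =
    Proj.toSpecZero ℬ ≫ Spec.map (CommRingCat.ofHom (zeroPart φ)) := by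
  refine (Proj.mapAffineOpenCover φ hφ).openCover.hom_ext _ _ fun (s : Σ i : PNat, 𝒜 i) => ?_
  show Proj.awayι ℬ (φ (s.2 : A)) (φ.2 s.2.2) s.1.2 ≫ _ = Proj.awayι ℬ (φ (s.2 : A)) (φ.2 s.2.2) s.1.2 ≫ _
  refine (Proj.awayι_comp_map_assoc φ hφ s.1.2 _ s.2.2 _).trans ?_
  refine Eq.trans ?_ (Proj.awayι_toSpecZero_assoc _ _ _ _ _).symm
  refine (congrArg (_ ≫ ·) (Proj.awayι_toSpecZero _ _ _ _)).trans ?_
  rw [← Spec.map_comp, ← Spec.map_comp]
  congr 1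
  ext a
  simp [HomogeneousLocalization.Away.map, HomogeneousLocalization.map, fromZeroRingHom, zeroPart]

theorem iSup_basicOpen_pos : (⨆ i : (Σ i : PNat, 𝒜 i), Proj.basicOpen 𝒜 (i.2 : A)) = ⊤ := by
  refine top_le_iff.1 fun x _ => ?_
  obtain ⟨i, y, hy⟩ := (Proj.affineOpenCover 𝒜).openCover.exists_eq x
  refine TopologicalSpace.Opens.mem_iSup.2 ⟨i, ?_⟩
  rw [← hy, ← Proj.opensRange_awayι 𝒜 (i.2 : A) i.2.2 i.1.2]
  exact ⟨y, rfl⟩

theorem projMap_of_forall (P : MorphismProperty Scheme.{u}) [IsZariskiLocalAtTarget P]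
    (h : ∀ (d : ℕ), 0 < d → ∀ s ∈ 𝒜 d, P (Spec.map (CommRingCat.ofHom (Away.map φ s)))) :
    P (Proj.map φ hφ) := by
  refine IsZariskiLocalAtTarget.of_iSup_eq_top _ iSup_basicOpen_pos fun i => ?_
  refine (P.arrow_mk_iso_iff (Arrow.isoMk
    (Scheme.isoOfEq _ (Proj.map_preimage_basicOpen φ hφ (i.2 : A)) ≪≫
      Proj.basicOpenIsoSpec ℬ (φ (i.2 : A)) (φ.2 i.2.2) i.1.2)
    (Proj.basicOpenIsoSpec 𝒜 (i.2 : A) i.2.2 i.1.2) ?_)).2 (h _ i.1.2 _ i.2.2)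
  obtain ⟨⟨d, hd⟩, s, hs⟩ := i
  simp only [Arrow.mk_hom, Iso.trans_hom, Category.assoc]
  refine (cancel_mono (Proj.awayι 𝒜 s hs hd)).1 ?_
  refine ((Category.assoc _ _ _).trans (congrArg (_ ≫ ·) ((Category.assoc _ _ _).trans
    (congrArg (_ ≫ ·) (Proj.awayι_comp_map φ hφ hd s hs).symm)))).trans ?_
  refine (congrArg (_ ≫ ·) ((congrArg (_ ≫ ·) (Category.assoc _ _ _)).trans (Iso.hom_inv_id_assoc _ _))).trans ?_
  refine Eq.trans ?_ ((Category.assoc _ _ _).trans (congrArg (_ ≫ ·) (Iso.hom_inv_id_assoc _ _))).symm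
  exact (Scheme.isoOfEq_hom_ι_assoc _ _ _).trans (morphismRestrict_ι _ _).symm

theorem awayMap_surjective (hsurj : Function.Surjective φ) {d : ℕ} (s : A) (hs : s ∈ 𝒜 d) :
    Function.Surjective (Away.map φ s) := by
  classical
  intro x
  obtain ⟨n, b, hb, rfl⟩ := Away.mk_surjective ℬ (φ.2 hs : φ s ∈ ℬ d) x
  obtain ⟨a, rfl⟩ := hsurj b
  refine ⟨Away.mk 𝒜 hs n _ (decompose 𝒜 a (n • d)).2, ?_⟩
  rw [Away.map_mk]
  apply HomogeneousLocalization.val_injective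
  simp only [Away.val_mk, GradedRingHom.map_directSumDecompose, decompose_of_mem_same ℬ hb]
  rfl

theorem awayMap_bijective (hbij : ∀ n : ℕ, 0 < n → Set.BijOn φ (𝒜 n) (ℬ n)) {d : ℕ} (hd : 0 < d) (s : A)
    (hs : s ∈ 𝒜 d) : Function.Bijective (Away.map φ s) := by
  constructor
  · rw [injective_iff_map_eq_zero]
    intro x hx
    obtain ⟨n, b, hb, rfl⟩ := Away.mk_surjective 𝒜 hs x
    apply HomogeneousLocalization.val_injective
    replace hx := congrArg HomogeneousLocalization.val hx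
    rw [Away.map_mk, Away.val_mk, HomogeneousLocalization.val_zero, Localization.mk_eq_mk',
      IsLocalization.mk'_eq_zero_iff] at hx
    rw [HomogeneousLocalization.val_zero, Away.val_mk, Localization.mk_eq_mk', IsLocalization.mk'_eq_zero_iff]
    obtain ⟨⟨_, k, rfl⟩, hk⟩ := hx
    refine ⟨⟨_, k + 1, rfl⟩, ?_⟩
    have hmem := SetLike.mul_mem_graded (SetLike.pow_mem_graded (k + 1) hs) hb
    refine (hbij _ ?_).injOn hmem (zero_mem _) ?_
    · simp only [smul_eq_mul, Nat.succ_mul]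
      omega
    · simp only [map_zero] at hk ⊢
      rw [map_mul, map_pow, pow_succ', mul_assoc, hk, mul_zero]
  · intro x
    obtain ⟨n, a, ha, rfl⟩ := Away.mk_surjective ℬ (φ.2 hs : φ s ∈ ℬ d) x
    have hmem : a * φ s ∈ ℬ ((n + 1) • d) := by
      rw [add_smul, one_smul]; exact SetLike.mul_mem_graded ha (φ.2 hs)
    obtain ⟨b, hb, hbe⟩ := (hbij _ (Nat.mul_pos n.succ_pos hd)).surjOn hmem
    refine ⟨Away.mk 𝒜 hs (n + 1) b hb, ?_⟩
    apply HomogeneousLocalization.val_injective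
    rw [Away.map_mk, Away.val_mk, Away.val_mk, Localization.mk_eq_mk_iff, Localization.r_iff_exists]
    refine ⟨1, ?_⟩
    simp only [hbe, OneMemClass.coe_one, one_mul, pow_succ]
    change φ s ^ n * (a * φ s) = φ s ^ n * φ s * a
    ring

theorem projMap_isIso (hbij : ∀ n : ℕ, 0 < n → Set.BijOn φ (𝒜 n) (ℬ n)) : IsIso (Proj.map φ hφ) :=
  projMap_of_forall φ hφ (MorphismProperty.isomorphisms Scheme) fun _ hd s hs =>
    (inferInstance : IsIso (Spec.map (RingEquiv.ofBijective _ (awayMap_bijective φ hbij hd s hs)).toCommRingCatIso.hom))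

theorem projMap_isClosedImmersion (hsurj : Function.Surjective φ) : IsClosedImmersion (Proj.map φ hφ) :=
  projMap_of_forall φ hφ @IsClosedImmersion fun _ _ s hs =>
    IsClosedImmersion.spec_of_surjective _ (awayMap_surjective φ hsurj s hs)

end Ring

section Rel

variable {Y PA PB : Scheme.{u}} {𝒜 ℬ : RelProj.QCGrAlg Y} {φ : 𝒜.toQCAlg ⟶ ℬ.toQCAlg}
  {hφ : RelProj.IsGradedHom φ}
  {hirr : ∀ (U : Y.Opens) (hU : IsAffineOpen U),
    (ℬ.deg U hU)₊ ≤ ((𝒜.deg U hU)₊).map (RelProj.gradedHomAt φ hφ U hU)}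
  {pA : PA ⟶ Y} {pB : PB ⟶ Y}
  {chartA : ∀ (U : Y.Opens) (hU : IsAffineOpen U), (((pA ⁻¹ᵁ U : PA.Opens) : Scheme.{u}) ≅ Proj (𝒜.deg U hU))}
  {chartB : ∀ (U : Y.Opens) (hU : IsAffineOpen U), (((pB ⁻¹ᵁ U : PB.Opens) : Scheme.{u}) ≅ Proj (ℬ.deg U hU))}
  (hA : RelProj.IsRelProj 𝒜 pA chartA) (hB : RelProj.IsRelProj ℬ pB chartB)
  {h : PB ⟶ PA} (hh : RelProj.IsRelProjMap φ hφ hirr chartA chartB h)

include hA hB hh

theorem relProjMap_comp : h ≫ pA = pB := by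
  refine (Scheme.openCoverOfIsOpenCover PB _ (TopologicalSpace.IsOpenCover.mk (iSup_preimage_affineOpens pB))).hom_ext _ _
    fun U => ?_
  show (pB ⁻¹ᵁ U.1).ι ≫ h ≫ pA = (pB ⁻¹ᵁ U.1).ι ≫ pB
  rw [reassoc_of% (hh U.1 U.2), ← hA.chart_over U.1 U.2, Iso.inv_hom_id_assoc, ← hB.chart_over U.1 U.2,
    reassoc_of% (map_toSpecZero (RelProj.gradedHomAt φ hφ U.1 U.2) (hirr U.1 U.2))]
  congr 2
  rw [← Category.assoc, ← Spec.map_comp]
  congr 2
  ext a
  exact congr($(φ.comm).app (op U.1) a)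

theorem relProjMap_of_forall (P : MorphismProperty Scheme.{u}) [IsZariskiLocalAtTarget P]
    (hP : ∀ (U : Y.Opens) (hU : IsAffineOpen U), P (Proj.map (RelProj.gradedHomAt φ hφ U hU) (hirr U hU))) :
    P h := by
  refine IsZariskiLocalAtTarget.of_iSup_eq_top (fun U : Y.affineOpens => pA ⁻¹ᵁ U.1) (iSup_preimage_affineOpens pA)
    fun U => ?_
  have e : h ⁻¹ᵁ pA ⁻¹ᵁ U.1 = pB ⁻¹ᵁ U.1 := by
    rw [← Scheme.Hom.comp_preimage, relProjMap_comp hA hB hh]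
  refine (P.arrow_mk_iso_iff (Arrow.isoMk (PB.isoOfEq e ≪≫ chartB U.1 U.2) (chartA U.1 U.2) ?_)).2 (hP U.1 U.2)
  simp only [Arrow.mk_hom, Iso.trans_hom, Category.assoc]
  have h1 := hh U.1 U.2
  refine (cancel_mono (chartA U.1 U.2).inv).1 ((cancel_mono (pA ⁻¹ᵁ U.1).ι).1 ?_)
  refine ((Category.assoc _ _ _).trans ?_).trans (Category.assoc _ _ _).symm
  refine ((congrArg ((PB.isoOfEq e).hom ≫ ·) ((Category.assoc _ _ _).trans h1.symm))).trans ?_
  refine Eq.trans ?_ ((Category.assoc _ _ _).trans (congrArg (h ∣_ pA ⁻¹ᵁ U.1 ≫ ·)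
    (Iso.hom_inv_id_assoc (chartA U.1 U.2) _))).symm
  rw [morphismRestrict_ι, Scheme.isoOfEq_hom_ι_assoc]

end Rel

end Groth.Agent.EGA2Misc
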