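import Mathlib
import Groth.Prelude.Def_Cone
import Groth.Prelude.Def_PCone
import Groth.Agent.EGA2Misc.ConeRetraction
import Groth.Agent.EGA2Misc.ProjPartial
import Groth.Agent.EGA2Misc.RelProjMap

/-!
# Existence of the retraction of the pointed affine cone; affineness of `G(φ) → Proj`
-/

noncomputable section

universe u

open CategoryTheory CategoryTheory.Limits AlgebraicGeometry HomogeneousLocalization
open scoped TensorProduct

namespace Groth.Agent.EGA2Misc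

variable {R A : Type u} [CommRing R] [CommRing A] [Algebra R A] (𝒜 : ℕ → Submodule R A) [GradedAlgebra 𝒜]

theorem factor_awayMap {d e : ℕ} {f g x : A} (hg : g ∈ 𝒜 e) (hx : x = f * g) {T : Type u}
    [CommRing T] (u : Localization.Away f →+* T) (w : Localization.Away x →+* T)
    (hA : u.comp (algebraMap A (Localization.Away f)) = w.comp (algebraMap A (Localization.Away x))) :
    u.comp (algebraMap (Away 𝒜 f) (Localization.Away f)) =
      (w.comp (algebraMap (Away 𝒜 x) (Localization.Away x))).comp (awayMap 𝒜 hg hx) := by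
  have hu : u = w.comp (Localization.awayLift (algebraMap A (Localization.Away x)) f
      (isUnit_of_dvd_unit (map_dvd _ ⟨g, hx⟩) (IsLocalization.Away.algebraMap_isUnit x))) := by
    refine IsLocalization.ringHom_ext (Submonoid.powers f) ?_
    rw [hA, RingHom.comp_assoc]
    congr 1
    refine RingHom.ext fun a => ?_
    exact (IsLocalization.Away.lift_eq (S := Localization.Away f) f
      (isUnit_of_dvd_unit (map_dvd (algebraMap A (Localization.Away x)) ⟨g, hx⟩)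
        (IsLocalization.Away.algebraMap_isUnit x)) a).symm
  refine RingHom.ext fun q => ?_
  rw [RingHom.comp_apply, RingHom.comp_apply, RingHom.comp_apply, HomogeneousLocalization.algebraMap_apply,
    HomogeneousLocalization.algebraMap_apply, val_awayMap, hu, RingHom.comp_apply]

theorem cone_glue_compat {d e : ℕ} (hd : 0 < d) (he : 0 < e) {f g : A} (hf : f ∈ 𝒜 d) (hg : g ∈ 𝒜 e)
    {T : Type u} [CommRing T] (u : Localization.Away f →+* T) (v : Localization.Away g →+* T)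
    (hA : u.comp (algebraMap A (Localization.Away f)) = v.comp (algebraMap A (Localization.Away g))) :
    Spec.map (CommRingCat.ofHom (u.comp (algebraMap (Away 𝒜 f) (Localization.Away f)))) ≫
        Proj.awayι 𝒜 f hf hd =
      Spec.map (CommRingCat.ofHom (v.comp (algebraMap (Away 𝒜 g) (Localization.Away g)))) ≫
        Proj.awayι 𝒜 g hg he := by
  have hunit : IsUnit ((u.comp (algebraMap A (Localization.Away f))) (f * g)) := by
    rw [map_mul]
    refine IsUnit.mul ((IsLocalization.Away.algebraMap_isUnit f).map u) ?_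
    rw [hA]
    exact (IsLocalization.Away.algebraMap_isUnit g).map v
  let w : Localization.Away (f * g) →+* T := Localization.awayLift _ (f * g) hunit
  have hw : w.comp (algebraMap A (Localization.Away (f * g))) = u.comp (algebraMap A (Localization.Away f)) :=
    RingHom.ext fun a => IsLocalization.Away.lift_eq (S := Localization.Away (f * g)) (f * g) hunit a
  rw [factor_awayMap 𝒜 (d := d) hg (rfl : f * g = f * g) u w hw.symm,
    CommRingCat.ofHom_comp, Spec.map_comp_assoc, Proj.SpecMap_awayMap_awayι]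
  conv_rhs => rw [factor_awayMap 𝒜 (d := e) hf (mul_comm f g : f * g = g * f) v w (hA ▸ hw.symm),
    CommRingCat.ofHom_comp, Spec.map_comp_assoc, Proj.SpecMap_awayMap_awayι]
  have key : ∀ (k k' : ℕ) (hk : f * g ∈ 𝒜 k) (h0 : 0 < k) (hk' : f * g ∈ 𝒜 k') (h0' : 0 < k'), k = k' →
      Proj.awayι 𝒜 (f * g) hk h0 = Proj.awayι 𝒜 (f * g) hk' h0' := by
    intro k k' hk h0 hk' h0' e
    subst e
    rfl
  exact congrArg _ (key _ _ _ _ _ _ (add_comm d e))

theorem existsUnique_pointedCone_retraction :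
    ∃! π : (Cone.pointed 𝒜 : Scheme.{u}) ⟶ Proj 𝒜,
      ∀ (d : ℕ) (f : A) (hd : 0 < d) (hf : f ∈ 𝒜 d),
        Cone.chart hf hd ≫ π =
          Spec.map (CommRingCat.ofHom (algebraMap (Away 𝒜 f) (Localization.Away f))) ≫
            Proj.awayι 𝒜 f hf hd := by
  let I := {x : ℕ × A // 0 < x.1 ∧ x.2 ∈ 𝒜 x.1}
  let fc : ∀ i : I, Spec (CommRingCat.of (Localization.Away i.1.2)) ⟶ (Cone.pointed 𝒜 : Scheme.{u}) :=
    fun i => Cone.chart i.2.2 i.2.1
  let a : ∀ i : I, Spec (CommRingCat.of (Localization.Away i.1.2)) ⟶ Spec (CommRingCat.of A) :=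
    fun i => Spec.map (CommRingCat.ofHom (algebraMap A (Localization.Away i.1.2)))
  have hfc : ∀ i : I, fc i ≫ (Cone.pointed 𝒜).ι = a i := fun i => IsOpenImmersion.lift_fac _ _ _
  have hoi : ∀ i, IsOpenImmersion (fc i) := fun i =>
    haveI : IsOpenImmersion (fc i ≫ (Cone.pointed 𝒜).ι) := by
      rw [hfc i]; exact IsOpenImmersion.of_isLocalization i.1.2
    IsOpenImmersion.of_comp (fc i) (Cone.pointed 𝒜).ι
  have hcov : ∀ x : (Cone.pointed 𝒜 : Scheme.{u}), ∃ i y, fc i y = x := by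
    intro x
    have hne : ¬ ((HomogeneousIdeal.irrelevant 𝒜).toIdeal : Set A) ⊆ (x.1.asIdeal : Set A) := x.2
    obtain ⟨d, f, hd, hf, hfx⟩ : ∃ (e : ℕ) (g' : A), 0 < e ∧ g' ∈ 𝒜 e ∧ g' ∉ x.1.asIdeal := by
      by_contra hall
      push Not at hall
      exact hne ((HomogeneousIdeal.toIdeal_irrelevant_le _).2 fun i hi a ha => hall i a hi ha)
    have hxr : x.1 ∈ Set.range (a ⟨(d, f), hd, hf⟩).base :=
      (PrimeSpectrum.localization_away_comap_range (Localization.Away f) f).symm ▸ hfx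
    obtain ⟨y, hy⟩ := hxr
    refine ⟨⟨(d, f), hd, hf⟩, y, (Cone.pointed 𝒜).ι.isOpenEmbedding.injective ?_⟩
    rw [← Scheme.Hom.comp_apply, hfc]
    exact hy
  let 𝒰 : (Cone.pointed 𝒜 : Scheme.{u}).OpenCover :=
    Scheme.Cover.mkOfCovers I (fun i => Spec (CommRingCat.of (Localization.Away i.1.2))) fc hcov hoi
  let tgt : ∀ i : I, Spec (CommRingCat.of (Localization.Away i.1.2)) ⟶ Proj 𝒜 := fun i =>
    Spec.map (CommRingCat.ofHom (algebraMap (Away 𝒜 i.1.2) (Localization.Away i.1.2))) ≫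
      Proj.awayι 𝒜 i.1.2 i.2.2 i.2.1
  refine ⟨𝒰.glueMorphisms tgt ?_, fun d f hd hf => ?_, fun p hp => ?_⟩
  · intro (i : I) (j : I)
    let pA := pullbackSpecIso A (Localization.Away i.1.2) (Localization.Away j.1.2)
    let t : pullback (fc i) (fc j) ⟶ pullback (a i) (a j) :=
      pullback.lift (pullback.fst _ _) (pullback.snd _ _) (by rw [← hfc i, ← hfc j, pullback.condition_assoc])
    show pullback.fst (fc i) (fc j) ≫ _ = pullback.snd (fc i) (fc j) ≫ _
    rw [← show t ≫ pullback.fst _ _ = pullback.fst (fc i) (fc j) from pullback.lift_fst _ _ _,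
      ← show t ≫ pullback.snd _ _ = pullback.snd (fc i) (fc j) from pullback.lift_snd _ _ _,
      Category.assoc, Category.assoc]
    refine congrArg (t ≫ ·) ((cancel_epi pA.inv).1 ?_)
    have k1 := congrArg (· ≫ tgt i) (pullbackSpecIso_inv_fst A (Localization.Away i.1.2) (Localization.Away j.1.2))
    have k2 := congrArg (· ≫ tgt j) (pullbackSpecIso_inv_snd A (Localization.Away i.1.2) (Localization.Away j.1.2))
    refine ((Category.assoc _ _ _).symm.trans k1).trans (Eq.trans ?_ ((Category.assoc _ _ _).symm.trans k2).symm)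
    simp only [tgt]
    rw [← Spec.map_comp_assoc, ← Spec.map_comp_assoc, ← CommRingCat.ofHom_comp, ← CommRingCat.ofHom_comp]
    refine cone_glue_compat 𝒜 i.2.1 j.2.1 i.2.2 j.2.2 _ _ (RingHom.ext fun b => ?_)
    show (algebraMap A (Localization.Away i.1.2) b) ⊗ₜ[A] (1 : Localization.Away j.1.2) =
      (1 : Localization.Away i.1.2) ⊗ₜ[A] algebraMap A (Localization.Away j.1.2) b
    rw [Algebra.algebraMap_eq_smul_one, Algebra.algebraMap_eq_smul_one, TensorProduct.smul_tmul]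
  · exact 𝒰.ι_glueMorphisms _ _ (⟨(d, f), hd, hf⟩ : I)
  · refine 𝒰.hom_ext _ _ fun (i : I) => Eq.trans (hp i.1.1 i.1.2 i.2.1 i.2.2) ?_
    symm
    exact 𝒰.ι_glueMorphisms _ _ i

variable {B : Type u} [CommRing B] [Algebra R B] (ℬ : ℕ → Submodule R B) [GradedAlgebra ℬ] (φ : 𝒜 →+*ᵍ ℬ)

theorem projMapOnDom_preimage (p : (PCone.dom φ : Scheme.{u}) ⟶ Proj 𝒜)
    (hp : ∀ (d : ℕ) (f : A) (hd : 0 < d) (hf : f ∈ 𝒜 d),
        PCone.chart φ hf hd ≫ p = Spec.map (CommRingCat.ofHom (Away.map φ f)) ≫ Proj.awayι 𝒜 f hf hd)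
    {d : ℕ} {f : A} (hd : 0 < d) (hf : f ∈ 𝒜 d) :
    p ⁻¹ᵁ Proj.basicOpen 𝒜 f = (PCone.dom φ).ι ⁻¹ᵁ Proj.basicOpen ℬ (φ f) := by
  ext x
  obtain ⟨⟨g, e, he, hg⟩, hgx⟩ := TopologicalSpace.Opens.mem_iSup.1 x.2
  rw [← Proj.opensRange_awayι ℬ (φ g) (φ.map_mem hg) he] at hgx
  obtain ⟨y, hy⟩ := hgx
  have hyx : PCone.chart φ hg he y = x := by
    refine (PCone.dom φ).ι.isOpenEmbedding.injective ?_
    rw [← Scheme.Hom.comp_apply, PCone.chart, IsOpenImmersion.lift_fac]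
    exact hy
  subst hyx
  show p (PCone.chart φ hg he y) ∈ Proj.basicOpen 𝒜 f ↔
    (PCone.dom φ).ι (PCone.chart φ hg he y) ∈ Proj.basicOpen ℬ (φ f)
  rw [← Scheme.Hom.comp_apply, ← Scheme.Hom.comp_apply, hp e g he hg, Scheme.Hom.comp_apply, PCone.chart,
    IsOpenImmersion.lift_fac]
  show Spec.map _ y ∈ Proj.awayι 𝒜 g hg he ⁻¹ᵁ Proj.basicOpen 𝒜 f ↔
    y ∈ Proj.awayι ℬ (φ g) (φ.map_mem hg) he ⁻¹ᵁ Proj.basicOpen ℬ (φ f)
  rw [Proj.awayι_preimage_basicOpen 𝒜 hg he hf hd]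
  refine Iff.trans ?_
    (SetLike.ext_iff.1 (Proj.awayι_preimage_basicOpen ℬ (φ.map_mem hg) he (φ.map_mem hf) hd) y).symm
  show Away.map φ g (Away.isLocalizationElem hg hf) ∉ y.asIdeal ↔
    Away.isLocalizationElem (φ.map_mem hg) (φ.map_mem hf) ∉ y.asIdeal
  rw [Away.isLocalizationElem, Away.map_mk]
  simp [Away.isLocalizationElem, map_pow]

theorem projMapOnDom_isAffineHom (p : (PCone.dom φ : Scheme.{u}) ⟶ Proj 𝒜)
    (hp : ∀ (d : ℕ) (f : A) (hd : 0 < d) (hf : f ∈ 𝒜 d),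
        PCone.chart φ hf hd ≫ p = Spec.map (CommRingCat.ofHom (Away.map φ f)) ≫ Proj.awayι 𝒜 f hf hd) :
    IsAffineHom p := by
  refine isAffineHom_of_forall_exists_isAffineOpen _ fun x => ?_
  let c := (Proj.affineOpenCover 𝒜).idx x
  obtain ⟨y, hy⟩ := (Proj.affineOpenCover 𝒜).covers x
  refine ⟨Proj.basicOpen 𝒜 (c.2 : A), ?_, Proj.isAffineOpen_basicOpen 𝒜 _ c.2.2 c.1.2, ?_⟩
  · rw [← Proj.opensRange_awayι 𝒜 c.2.1 c.2.2 c.1.2]
    exact ⟨y, hy⟩
  · rw [projMapOnDom_preimage 𝒜 ℬ φ p hp c.1.2 c.2.2,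
      ← Scheme.Hom.isAffineOpen_iff_of_isOpenImmersion (PCone.dom φ).ι,
      Scheme.Hom.image_preimage_eq_opensRange_inf, Scheme.Opens.opensRange_ι]
    have hle : Proj.basicOpen ℬ (φ (c.2 : A)) ≤ PCone.dom φ :=
      le_iSup_of_le ⟨(c.2 : A), c.1, c.1.2, c.2.2⟩ le_rfl
    rw [inf_eq_right.2 hle]
    exact Proj.isAffineOpen_basicOpen ℬ _ (φ.map_mem c.2.2) c.1.2


theorem awayMap_bijective_eventually (d₀ : ℕ) (hbij : ∀ d : ℕ, d₀ ≤ d → Set.BijOn φ (𝒜 d) (ℬ d))
    {d : ℕ} (hd : 0 < d) (s : A) (hs : s ∈ 𝒜 d) : Function.Bijective (Away.map φ s) := by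
  constructor
  · rw [injective_iff_map_eq_zero]
    intro x hx
    obtain ⟨n, b, hb, rfl⟩ := Away.mk_surjective 𝒜 hs x
    apply HomogeneousLocalization.val_injective
    replace hx := congrArg HomogeneousLocalization.val hx
    rw [Away.map_mk, Away.val_mk, HomogeneousLocalization.val_zero, Localization.mk_eq_mk',
      IsLocalization.mk'_eq_zero_iff] at hx
    rw [HomogeneousLocalization.val_zero, Away.val_mk, Localization.mk_eq_mk', IsLocalization.mk'_eq_zero_iff]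
    obtain ⟨⟨_, k, rfl⟩, hk⟩ := hx
    refine ⟨⟨_, k + d₀, rfl⟩, ?_⟩
    have hmem := SetLike.mul_mem_graded (SetLike.pow_mem_graded (k + d₀) hs) hb
    refine (hbij _ ?_).injOn hmem (zero_mem _) ?_
    · have : k + d₀ ≤ (k + d₀) * d := Nat.le_mul_of_pos_right _ hd
      simp only [smul_eq_mul]
      omega
    · simp only [map_zero] at hk ⊢
      rw [map_mul, map_pow, pow_add, mul_comm (φ s ^ k), mul_assoc, hk, mul_zero]
  · intro x
    obtain ⟨n, a, ha, rfl⟩ := Away.mk_surjective ℬ (φ.2 hs : φ s ∈ ℬ d) x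
    have hmem : a * φ s ^ d₀ ∈ ℬ ((n + d₀) • d) := by
      rw [add_smul]; exact SetLike.mul_mem_graded ha (SetLike.pow_mem_graded d₀ (φ.2 hs))
    have hle : d₀ ≤ (n + d₀) • d := le_trans (Nat.le_add_left _ _) (Nat.le_mul_of_pos_right _ hd)
    obtain ⟨b, hb, hbe⟩ := (hbij _ hle).surjOn hmem
    refine ⟨Away.mk 𝒜 hs (n + d₀) b hb, ?_⟩
    apply HomogeneousLocalization.val_injective
    rw [Away.map_mk, Away.val_mk, Away.val_mk, Localization.mk_eq_mk_iff, Localization.r_iff_exists]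
    refine ⟨1, ?_⟩
    simp only [hbe, OneMemClass.coe_one, one_mul, pow_add]
    change φ s ^ n * (a * φ s ^ d₀) = φ s ^ n * φ s ^ d₀ * a
    ring

theorem dom_eq_top_and_isIso (d₀ : ℕ) (hbij : ∀ d : ℕ, d₀ ≤ d → Set.BijOn φ (𝒜 d) (ℬ d))
    (r : (PCone.dom φ : Scheme.{u}) ⟶ Proj 𝒜)
    (hr : ∀ (d : ℕ) (f : A) (hd : 0 < d) (hf : f ∈ 𝒜 d),
      PCone.chart φ hf hd ≫ r = Spec.map (CommRingCat.ofHom (Away.map φ f)) ≫ Proj.awayι 𝒜 f hf hd) :
    PCone.dom φ = ⊤ ∧ IsIso r := by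
  refine ⟨top_le_iff.1 fun x _ => ?_, ?_⟩
  · let c := (Proj.affineOpenCover ℬ).idx x
    obtain ⟨y, hy⟩ := (Proj.affineOpenCover ℬ).covers x
    have hle : d₀ ≤ (d₀ + 1) * (c.1 : ℕ) := le_trans (Nat.le_succ _) (Nat.le_mul_of_pos_right _ c.1.2)
    obtain ⟨a, ha, hae⟩ := (hbij _ hle).surjOn
      (SetLike.pow_mem_graded (d₀ + 1) c.2.2 : (c.2 : B) ^ (d₀ + 1) ∈ ℬ ((d₀ + 1) * (c.1 : ℕ)))
    refine TopologicalSpace.Opens.mem_iSup.2 ⟨⟨a, _, Nat.mul_pos d₀.succ_pos c.1.2, ha⟩, ?_⟩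
    show x ∈ Proj.basicOpen ℬ (φ a)
    rw [show φ a = (c.2 : B) ^ (d₀ + 1) from hae, Proj.basicOpen_pow _ _ _ d₀.succ_pos,
      ← Proj.opensRange_awayι ℬ c.2.1 c.2.2 c.1.2]
    exact ⟨y, hy⟩
  · show MorphismProperty.isomorphisms Scheme r
    refine IsZariskiLocalAtTarget.of_iSup_eq_top (P := MorphismProperty.isomorphisms Scheme) _
      iSup_basicOpen_pos fun i => ?_
    have hle : Proj.basicOpen ℬ (φ (i.2 : A)) ≤ PCone.dom φ :=
      le_iSup_of_le ⟨(i.2 : A), i.1, i.1.2, i.2.2⟩ le_rfl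
    have hfac : PCone.chart φ i.2.2 i.1.2 ≫ (PCone.dom φ).ι =
        Proj.awayι ℬ (φ (i.2 : A)) (φ.map_mem i.2.2) i.1.2 := IsOpenImmersion.lift_fac _ _ _
    haveI : IsOpenImmersion (PCone.chart φ i.2.2 i.1.2) :=
      haveI : IsOpenImmersion (PCone.chart φ i.2.2 i.1.2 ≫ (PCone.dom φ).ι) := by rw [hfac]; infer_instance
      IsOpenImmersion.of_comp _ (PCone.dom φ).ι
    have hrange : (PCone.chart φ i.2.2 i.1.2).opensRange = r ⁻¹ᵁ Proj.basicOpen 𝒜 (i.2 : A) := by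
      apply (PCone.dom φ).ι.image_injective
      show (PCone.dom φ).ι ''ᵁ _ = (PCone.dom φ).ι ''ᵁ _
      rw [← Scheme.Hom.opensRange_comp, projMapOnDom_preimage 𝒜 ℬ φ r hr i.1.2 i.2.2,
        Scheme.Hom.image_preimage_eq_opensRange_inf, Scheme.Opens.opensRange_ι, inf_eq_right.2 hle]
      simp only [PCone.chart, IsOpenImmersion.lift_fac]
      exact Proj.opensRange_awayι ℬ (φ (i.2 : A)) (φ.map_mem i.2.2) i.1.2
    let e := (PCone.chart φ i.2.2 i.1.2).isoOpensRange ≪≫ Scheme.isoOfEq _ hrange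
    refine (MorphismProperty.cancel_left_of_respectsIso (MorphismProperty.isomorphisms Scheme) e.hom _).1 ?_
    have h1 : e.hom ≫ r ∣_ Proj.basicOpen 𝒜 (i.2 : A) =
        Spec.map (CommRingCat.ofHom (Away.map φ (i.2 : A))) ≫
          (Proj.basicOpenIsoSpec 𝒜 (i.2 : A) i.2.2 i.1.2).inv := by
      rw [← cancel_mono (Proj.basicOpen 𝒜 (i.2 : A)).ι, Category.assoc, morphismRestrict_ι, Category.assoc]
      refine Eq.trans ?_ (hr _ _ i.1.2 i.2.2)
      simp only [e, Iso.trans_hom, Category.assoc, Scheme.isoOfEq_hom_ι_assoc,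
        Scheme.Hom.isoOpensRange_hom_ι_assoc]
      rfl
    rw [MorphismProperty.isomorphisms.iff, h1]
    haveI : IsIso (Spec.map (CommRingCat.ofHom (Away.map φ (i.2 : A)))) :=
      (inferInstance : IsIso (Spec.map (RingEquiv.ofBijective _
        (awayMap_bijective_eventually 𝒜 ℬ φ d₀ hbij i.1.2 _ i.2.2)).toCommRingCatIso.hom))
    infer_instance

end Groth.Agent.EGA2Misc
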