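import Mathlib.AlgebraicGeometry.OrderOfVanishing
import Mathlib.AlgebraicGeometry.Morphisms.FiniteType
import Mathlib.AlgebraicGeometry.Noetherian
import Mathlib.AlgebraicGeometry.FunctionField

/-! Topology of schemes of dimension one. -/

set_option autoImplicit false

universe u

open CategoryTheory AlgebraicGeometry Topology

namespace Groth.Agent.EGA2Misc

variable {X : Scheme.{u}}

theorem lt_iff {a b : X} : a < b ↔ b ⤳ a ∧ b ≠ a := by
  rw [lt_iff_le_not_ge, Scheme.le_iff_specializes, Scheme.le_iff_specializes]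
  exact ⟨fun ⟨h1, h2⟩ => ⟨h1, fun e => h2 (e ▸ specializes_rfl)⟩,
    fun ⟨h1, h2⟩ => ⟨h1, fun h => h2 (h1.antisymm h).eq⟩⟩

theorem isMax_iff {a : X} : IsMax a ↔ ∀ b : X, b ⤳ a → b = a :=
  ⟨fun h b hb => by_contra fun hne => h.not_lt (lt_iff.2 ⟨hb, hne⟩),
    fun h b hb => by
      rw [Scheme.le_iff_specializes] at hb ⊢
      exact h b hb ▸ specializes_rfl⟩

theorem coheight_eq_one {x : X} (h : ringKrullDim (X.presheaf.stalk x) = 1) :
    Order.coheight x = 1 := by
  rw [AlgebraicGeometry.ringKrullDim_stalk_eq_coheight] at h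
  exact_mod_cast h

theorem isMax_of_specializes {c x : X} (h : ringKrullDim (X.presheaf.stalk c) = 1)
    (hxc : x ⤳ c) (hne : x ≠ c) : IsMax x := by
  have h2 := Order.coheight_add_one_le (lt_iff.2 ⟨hxc, hne⟩)
  rw [coheight_eq_one h] at h2
  rw [← Order.coheight_eq_zero]
  generalize Order.coheight x = m at h2
  cases m with
  | top => simp at h2
  | coe n =>
    norm_cast at h2 ⊢
    omega

theorem not_isMax_of_dim_eq_one {x : X} (h : ringKrullDim (X.presheaf.stalk x) = 1) :
    ¬ IsMax x := fun hm => by simpa [coheight_eq_one h] using Order.coheight_eq_zero.2 hm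

theorem exists_closed_specialization [CompactSpace X] (x : X) :
    ∃ c, IsClosed ({c} : Set X) ∧ x ⤳ c := by
  obtain ⟨c, hc, hcc⟩ := IsClosed.exists_closed_singleton (S := closure {x}) isClosed_closure
    ⟨x, subset_closure rfl⟩
  exact ⟨c, hcc, specializes_iff_mem_closure.2 hc⟩

theorem isMax_of_not_isClosed [CompactSpace X]
    (hd : ∀ x : X, IsClosed ({x} : Set X) → ringKrullDim (X.presheaf.stalk x) = 1) {x : X}
    (hx : ¬ IsClosed ({x} : Set X)) : IsMax x := by
  obtain ⟨c, hc, hxc⟩ := exists_closed_specialization x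
  exact isMax_of_specializes (hd c hc) hxc fun e => hx (e ▸ hc)

theorem isMax_iff_component {x : X} :
    IsMax x ↔ closure ({x} : Set X) ∈ irreducibleComponents (X : Type u) := by
  constructor
  · intro h
    refine ⟨isIrreducible_singleton.closure, fun Z hZ hle => ?_⟩
    obtain ⟨y, hy⟩ := QuasiSober.sober hZ.closure isClosed_closure
    have hyx : y ⤳ x := hy.specializes (subset_closure (hle (subset_closure rfl)))
    obtain rfl := isMax_iff.1 h y hyx
    exact subset_closure.trans hy.def.ge
  · intro h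
    refine isMax_iff.2 fun y hy => ?_
    have h1 : closure ({x} : Set X) ⊆ closure {y} :=
      closure_minimal (Set.singleton_subset_iff.2 (specializes_iff_mem_closure.1 hy)) isClosed_closure
    have h2 : closure ({y} : Set X) ⊆ closure {x} := h.2 isIrreducible_singleton.closure h1
    exact (hy.antisymm (specializes_iff_mem_closure.2 (h2 (subset_closure rfl)))).eq.symm ▸ rfl

theorem curve_of_irreducible [CompactSpace X] [IsLocallyNoetherian X] [IrreducibleSpace X]
    (hd : ∀ x : X, IsClosed ({x} : Set X) → ringKrullDim (X.presheaf.stalk x) = 1) :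
    (∀ x : X, ¬ IsClosed ({x} : Set X) → x = genericPoint X) ∧
      ∀ F : Set X, IsClosed F → (F ≠ Set.univ ↔ (F.Finite ∧ ∀ x ∈ F, IsClosed ({x} : Set X))) := by
  have h1 : ∀ x : X, ¬ IsClosed ({x} : Set X) → x = genericPoint X := fun x hx =>
    (isMax_iff.1 (isMax_of_not_isClosed hd hx) _ (genericPoint_specializes x)).symm
  refine ⟨h1, fun F hF => ⟨fun hne => ?_, fun ⟨hfin, hcl⟩ hu => ?_⟩⟩
  · have hcl : ∀ x ∈ F, IsClosed ({x} : Set X) := by
      intro x hx
      by_contra hx'
      refine hne (Set.eq_univ_of_forall fun y => ?_)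
      obtain rfl := h1 x hx'
      exact (genericPoint_specializes y).mem_closed hF hx
    haveI : IsNoetherian X := { }
    obtain ⟨S, hSf, hSc, hSi, hFS⟩ :=
      TopologicalSpace.NoetherianSpace.exists_finite_set_isClosed_irreducible hF
    refine ⟨hFS ▸ hSf.sUnion fun t ht => ?_, hcl⟩
    obtain ⟨p, hp⟩ := QuasiSober.sober (hSi t ht) (hSc t ht)
    have hpt : p ∈ t := hp.mem
    have hpF : p ∈ F := hFS ▸ Set.mem_sUnion_of_mem hpt ht
    rw [← hp.def, (hcl p hpF).closure_eq]
    exact Set.finite_singleton p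
  · subst hu
    exact not_isMax_of_dim_eq_one (hd _ (hcl (genericPoint X) trivial))
      (isMax_iff.2 fun b hb => (hb.antisymm (genericPoint_specializes b)).eq)

theorem dim_one_iff_irreducibleClosed [CompactSpace X] :
    (∀ x : X, IsClosed ({x} : Set X) → ringKrullDim (X.presheaf.stalk x) = 1) ↔
      ((∀ F : Set X, IsClosed F → IsIrreducible F → F ∉ irreducibleComponents (X : Type u) →
          ∃ x : X, IsClosed ({x} : Set X) ∧ F = {x}) ∧
        ∀ x : X, IsClosed ({x} : Set X) → ({x} : Set X) ∉ irreducibleComponents (X : Type u)) := by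
  constructor
  · intro hd
    refine ⟨fun F hF hFi hFc => ?_, fun x hx hc => ?_⟩
    · obtain ⟨p, hp⟩ := QuasiSober.sober hFi hF
      have hpc : IsClosed ({p} : Set X) := by_contra fun h => hFc (hp.def ▸
        isMax_iff_component.1 (isMax_of_not_isClosed hd h))
      exact ⟨p, hpc, by rw [← hp.def, hpc.closure_eq]⟩
    · exact not_isMax_of_dim_eq_one (hd x hx) (isMax_iff_component.2 (hx.closure_eq.symm ▸ hc))
  · rintro ⟨h1, h2⟩ x hx
    rw [AlgebraicGeometry.ringKrullDim_stalk_eq_coheight]
    have h0 : Order.coheight x ≠ 0 := fun h => h2 x hx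
      (hx.closure_eq ▸ isMax_iff_component.1 (Order.coheight_eq_zero.1 h))
    have hle : Order.coheight x ≤ ((1 : ℕ) : ℕ∞) := Order.coheight_le_coe_iff.2 fun y hy => by
      have hy0 : Order.coheight y = 0 := Order.coheight_eq_zero.2 <| by
        by_contra hm
        obtain ⟨p, hp, hyp⟩ := h1 _ isClosed_closure isIrreducible_singleton.closure
          (fun hc => hm (isMax_iff_component.2 hc))
        obtain rfl : y = p := by simpa [hyp] using (subset_closure rfl : y ∈ closure ({y} : Set X))
        obtain ⟨hyx, hne⟩ := lt_iff.1 hy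
        exact hne (hyx.mem_closed hp rfl).symm
      simp [hy0]
    have : Order.coheight x = 1 := le_antisymm (by simpa using hle) (Order.one_le_iff_ne_zero.2 h0)
    simp [this]

end Groth.Agent.EGA2Misc
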