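import Mathlib.RingTheory.GradedAlgebra.Basic
import Mathlib.Algebra.Polynomial.Coeff
import Mathlib.Algebra.Algebra.Operations
import Mathlib.Algebra.Polynomial.AlgebraMap

/-! `S♮` is generated in degree one from rank `n₀` on iff `S` is. -/

set_option autoImplicit false

universe u

open Polynomial

namespace Groth.Agent.EGA2Misc

theorem natural_succ_eq_one_mul_iff {R A B : Type u} [CommRing R] [CommRing A] [Algebra R A]
    (𝒜 : ℕ → Submodule R A) [GradedAlgebra 𝒜] [CommRing B] [Algebra R B] (ℬ : ℕ → Submodule R B)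
    [GradedAlgebra ℬ] (φ : B →ₐ[R] Polynomial A) (hφ : Function.Injective φ)
    (hdeg : ∀ n : ℕ, Submodule.map φ.toLinearMap (ℬ n) =
      Submodule.map ((Polynomial.monomial n : A →ₗ[A] Polynomial A).restrictScalars R)
        (⨆ (m : ℕ) (_ : n ≤ m), 𝒜 m)) (n₀ : ℕ) :
    (∀ n : ℕ, n₀ ≤ n → ℬ (n + 1) = ℬ 1 * ℬ n) ↔ (∀ n : ℕ, n₀ ≤ n → 𝒜 (n + 1) = 𝒜 1 * 𝒜 n) := by
  classical
  let G : ℕ → Submodule R A := fun n => ⨆ (m : ℕ) (_ : n ≤ m), 𝒜 m
  let μ : ℕ → A →ₗ[R] Polynomial A := fun n => (Polynomial.monomial n : A →ₗ[A] Polynomial A).restrictScalars R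
  have hμ : ∀ (i j : ℕ) (P Q : Submodule R A),
      P.map (μ i) * Q.map (μ j) = (P * Q).map (μ (i + j)) := by
    intro i j P Q
    refine le_antisymm (Submodule.mul_le.2 ?_) (Submodule.map_le_iff_le_comap.2 (Submodule.mul_le.2 ?_))
    · intro p hp q hq
      obtain ⟨a, ha, rfl⟩ := Submodule.mem_map.1 hp
      obtain ⟨b, hb, rfl⟩ := Submodule.mem_map.1 hq
      exact Submodule.mem_map.2 ⟨a * b, Submodule.mul_mem_mul ha hb, (monomial_mul_monomial i j a b).symm⟩
    · intro a ha b hb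
      show μ (i + j) (a * b) ∈ P.map (μ i) * Q.map (μ j)
      rw [show μ (i + j) (a * b) = μ i a * μ j b from (monomial_mul_monomial i j a b).symm]
      exact Submodule.mul_mem_mul (Submodule.mem_map_of_mem ha) (Submodule.mem_map_of_mem hb)
  have hiff : ∀ n, ℬ (n + 1) = ℬ 1 * ℬ n ↔ G (n + 1) = G 1 * G n := by
    intro n
    have hi : Function.Injective (Submodule.map φ.toLinearMap) := Submodule.map_injective_of_injective hφ
    have hj : Function.Injective (Submodule.map (μ (n + 1))) :=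
      Submodule.map_injective_of_injective (Polynomial.monomial_injective (n + 1))
    have e : Submodule.map φ.toLinearMap (ℬ 1 * ℬ n) = (G 1 * G n).map (μ (n + 1)) := by
      rw [Submodule.map_mul, hdeg, hdeg, hμ, add_comm 1 n]
    constructor
    · intro h
      apply hj
      rw [← e, ← h, hdeg]
    · intro h
      apply hi
      rw [e, ← h, hdeg]
  simp only [hiff]
  have hle : ∀ {n m : ℕ}, n ≤ m → 𝒜 m ≤ G n := fun {n m} h => le_iSup₂_of_le m h le_rfl
  have hmul : ∀ i j, 𝒜 i * 𝒜 j ≤ 𝒜 (i + j) := fun i j =>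
    Submodule.mul_le.2 fun a ha b hb => SetLike.mul_mem_graded ha hb
  constructor
  · intro h n hn
    refine le_antisymm (fun x hx => ?_) (by rw [add_comm]; exact hmul 1 n)
    let π : A →ₗ[R] A := GradedAlgebra.proj 𝒜 (n + 1)
    have hx' : x ∈ G 1 * G n := h n hn ▸ hle le_rfl hx
    have hπ : G 1 * G n ≤ (𝒜 1 * 𝒜 n).comap π := by
      simp only [G, Submodule.iSup_mul, Submodule.mul_iSup]
      refine iSup₂_le fun j hj => iSup₂_le fun i hi => Submodule.mul_le.2 fun a ha b hb => ?_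
      show GradedAlgebra.proj 𝒜 (n + 1) (a * b) ∈ 𝒜 1 * 𝒜 n
      have hab := SetLike.mul_mem_graded ha hb
      rw [GradedAlgebra.proj_apply]
      by_cases he : i + j = n + 1
      · have hi1 : i = 1 := by omega
        have hjn : j = n := by omega
        rw [DirectSum.decompose_of_mem_same 𝒜 (show a * b ∈ 𝒜 (n + 1) by rwa [← he])]
        exact Submodule.mul_mem_mul (hi1 ▸ ha) (hjn ▸ hb)
      · rw [DirectSum.decompose_of_mem_ne 𝒜 hab he]
        exact zero_mem _
    have hπx : GradedAlgebra.proj 𝒜 (n + 1) x ∈ 𝒜 1 * 𝒜 n := hπ hx'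
    rwa [GradedAlgebra.proj_apply, DirectSum.decompose_of_mem_same 𝒜 hx] at hπx
  · intro h n hn
    refine le_antisymm (iSup₂_le fun m hm => ?_) ?_
    · obtain ⟨m, rfl⟩ := Nat.exists_eq_succ_of_ne_zero (by omega : m ≠ 0)
      rw [Nat.succ_eq_add_one, h m (by omega)]
      exact mul_le_mul' (hle le_rfl) (hle (by omega))
    · simp only [G, Submodule.iSup_mul, Submodule.mul_iSup]
      exact iSup₂_le fun j hj => iSup₂_le fun i hi => (hmul i j).trans (hle (show n + 1 ≤ i + j by omega))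

end Groth.Agent.EGA2Misc
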