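import Groth.Prelude.Def_RelProj
import Mathlib.AlgebraicGeometry.ProjectiveSpectrum.Proper

/-! Separatedness and uniqueness of relative Proj. -/

set_option autoImplicit false

universe u

open CategoryTheory CategoryTheory.Limits AlgebraicGeometry Opposite

namespace Groth.Agent.EGA2Misc

/-- Gluing morphisms given on an open cover. -/
theorem exists_hom_of_agree {P Q : Scheme.{u}} {ι : Type u} (O : ι → P.Opens) (hO : ⨆ i, O i = ⊤)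
    (g : ∀ i, (O i : Scheme.{u}) ⟶ Q)
    (hg : ∀ i j, ∀ x ∈ O i ⊓ O j, ∃ (W : P.Opens) (_ : x ∈ W) (hi : W ≤ O i) (hj : W ≤ O j),
      P.homOfLE hi ≫ g i = P.homOfLE hj ≫ g j) :
    ∃! e : P ⟶ Q, ∀ i, (O i).ι ≫ e = g i := by
  have key : ∀ i j, P.homOfLE (inf_le_left : O i ⊓ O j ≤ O i) ≫ g i = P.homOfLE (inf_le_right : O i ⊓ O j ≤ O j) ≫ g j := by
    intro i j
    choose W hxW hi hj hW using fun x : ↑(O i ⊓ O j : P.Opens) => hg i j x.1 x.2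
    have hcov : ⨆ x : ↑(O i ⊓ O j : P.Opens), (O i ⊓ O j).ι ⁻¹ᵁ W x = ⊤ := by
      rw [eq_top_iff]
      exact fun x _ => TopologicalSpace.Opens.mem_iSup.2 ⟨x, hxW x⟩
    refine (Scheme.openCoverOfIsOpenCover _ _ (TopologicalSpace.IsOpenCover.mk hcov)).hom_ext _ _ fun x => ?_
    show ((O i ⊓ O j).ι ⁻¹ᵁ W x).ι ≫ _ = ((O i ⊓ O j).ι ⁻¹ᵁ W x).ι ≫ _
    let r := (O i ⊓ O j).ι ∣_ W x
    have h1 : ∀ (k : ι) (hk : W x ≤ O k) (hl : O i ⊓ O j ≤ O k),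
        ((O i ⊓ O j).ι ⁻¹ᵁ W x).ι ≫ P.homOfLE hl = r ≫ P.homOfLE hk := by
      intro k hk hl
      rw [← cancel_mono (O k).ι, Category.assoc, Category.assoc, Scheme.homOfLE_ι, Scheme.homOfLE_ι]
      exact (morphismRestrict_ι _ _).symm
    rw [← Category.assoc, ← Category.assoc, h1 i (hi x) inf_le_left, h1 j (hj x) inf_le_right,
      Category.assoc, Category.assoc, hW x]
  let 𝒰 := P.openCoverOfIsOpenCover O (TopologicalSpace.IsOpenCover.mk hO)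
  refine ⟨𝒰.glueMorphisms g fun i j => ?_, fun i => 𝒰.ι_glueMorphisms _ _ i, fun e he => ?_⟩
  · let a : pullback (𝒰.f i) (𝒰.f j) ⟶ (O i ⊓ O j : P.Opens) :=
      IsOpenImmersion.lift (O i ⊓ O j).ι (pullback.fst (𝒰.f i) (𝒰.f j) ≫ (O i).ι) (by
        rw [Scheme.Opens.range_ι]
        rintro _ ⟨z, rfl⟩
        refine ⟨(pullback.fst (𝒰.f i) (𝒰.f j) z).2, ?_⟩
        rw [show pullback.fst (𝒰.f i) (𝒰.f j) ≫ (O i).ι = pullback.snd (𝒰.f i) (𝒰.f j) ≫ (O j).ι from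
          pullback.condition]
        exact (pullback.snd (𝒰.f i) (𝒰.f j) z).2)
    have ha : a ≫ (O i ⊓ O j).ι = pullback.fst (𝒰.f i) (𝒰.f j) ≫ (O i).ι := IsOpenImmersion.lift_fac _ _ _
    have h1 : a ≫ P.homOfLE (inf_le_left : O i ⊓ O j ≤ O i) = pullback.fst (𝒰.f i) (𝒰.f j) := by
      rw [← cancel_mono (O i).ι, Category.assoc, Scheme.homOfLE_ι]; exact ha
    have h2 : a ≫ P.homOfLE (inf_le_right : O i ⊓ O j ≤ O j) = pullback.snd (𝒰.f i) (𝒰.f j) := by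
      rw [← cancel_mono (O j).ι, Category.assoc, Scheme.homOfLE_ι, ha]
      exact pullback.condition
    rw [← h1, ← h2]
    exact (Category.assoc _ _ _).trans ((congrArg (a ≫ ·) (key i j)).trans (Category.assoc _ _ _).symm)
  · exact 𝒰.hom_ext _ _ fun i => (he i).trans (𝒰.ι_glueMorphisms _ _ i).symm

variable {Y P : Scheme.{u}} {𝒮 : RelProj.QCGrAlg Y} {p : P ⟶ Y}
  {chart : ∀ (U : Y.Opens) (hU : IsAffineOpen U), (((p ⁻¹ᵁ U : P.Opens) : Scheme.{u}) ≅ Proj (𝒮.deg U hU))}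

theorem isSeparated_of_isRelProj (hP : RelProj.IsRelProj 𝒮 p chart) : IsSeparated p := by
  refine (IsZariskiLocalAtTarget.iff_of_iSup_eq_top (P := @IsSeparated)
    (fun U : Y.affineOpens => U.1) ?_).2 fun U => ?_
  · exact AlgebraicGeometry.iSup_affineOpens_eq_top Y
  · have h : p ∣_ U.1 = (chart U.1 U.2).hom ≫ Proj.toSpecZero (𝒮.deg U.1 U.2) ≫
        Spec.map (𝒮.strZero U.1 U.2) ≫ U.2.isoSpec.inv := by
      rw [← cancel_mono U.1.ι, morphismRestrict_ι]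
      simp only [Category.assoc, IsAffineOpen.isoSpec_inv_ι]
      exact (hP.chart_over U.1 U.2).symm
    rw [h]
    infer_instance

section unique

variable {P' : Scheme.{u}} {p' : P' ⟶ Y}
  {chart' : ∀ (U : Y.Opens) (hU : IsAffineOpen U), (((p' ⁻¹ᵁ U : P'.Opens) : Scheme.{u}) ≅ Proj (𝒮.deg U hU))}
  (hP : RelProj.IsRelProj 𝒮 p chart) (hP' : RelProj.IsRelProj 𝒮 p' chart')

theorem iSup_preimage_affineOpens (p : P ⟶ Y) : ⨆ U : Y.affineOpens, p ⁻¹ᵁ U.1 = ⊤ := by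
  rw [← Scheme.Hom.preimage_iSup, AlgebraicGeometry.iSup_affineOpens_eq_top Y, Scheme.Hom.preimage_top]

include hP hP' in
theorem relProj_existsUnique : ∃! e : P ⟶ P', ∀ (U : Y.Opens) (hU : IsAffineOpen U),
    (p ⁻¹ᵁ U).ι ≫ e = (chart U hU).hom ≫ (chart' U hU).inv ≫ (p' ⁻¹ᵁ U).ι := by
  have hres : ∀ (U : Y.Opens) (hU : IsAffineOpen U) (r : Γ(Y, U)),
      P.homOfLE (p.preimage_mono (Y.basicOpen_le r)) ≫ (chart U hU).hom ≫ (chart' U hU).inv ≫ (p' ⁻¹ᵁ U).ι =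
        (chart (Y.basicOpen r) (hU.basicOpen r)).hom ≫ (chart' (Y.basicOpen r) (hU.basicOpen r)).inv ≫
          (p' ⁻¹ᵁ Y.basicOpen r).ι := by
    intro U hU r
    have h' := congrArg (fun m => (chart' (Y.basicOpen r) (hU.basicOpen r)).inv ≫ m ≫ (chart' U hU).inv ≫
      (p' ⁻¹ᵁ U).ι) (hP'.chart_res U hU r)
    simp only [Category.assoc, Iso.hom_inv_id_assoc, Iso.inv_hom_id_assoc, Scheme.homOfLE_ι] at h'
    rw [reassoc_of% (hP.chart_res U hU r), h']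
  obtain ⟨e, he, huniq⟩ := exists_hom_of_agree (fun U : Y.affineOpens => p ⁻¹ᵁ U.1)
    (iSup_preimage_affineOpens p)
    (fun U => (chart U.1 U.2).hom ≫ (chart' U.1 U.2).inv ≫ (p' ⁻¹ᵁ U.1).ι) fun U V x hx => by
      obtain ⟨f, g, hfg, hxf⟩ := exists_basicOpen_le_affine_inter U.2 V.2 (p x) hx
      refine ⟨p ⁻¹ᵁ Y.basicOpen f, hxf, p.preimage_mono (Y.basicOpen_le f),
        p.preimage_mono (hfg ▸ Y.basicOpen_le g), ?_⟩
      rw [hres U.1 U.2 f]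
      have key : ∀ (D : Y.Opens) (hD : IsAffineOpen D) (e : D = Y.basicOpen g) (hle : p ⁻¹ᵁ D ≤ p ⁻¹ᵁ V.1),
          (chart D hD).hom ≫ (chart' D hD).inv ≫ (p' ⁻¹ᵁ D).ι =
            P.homOfLE hle ≫ (chart V.1 V.2).hom ≫ (chart' V.1 V.2).inv ≫ (p' ⁻¹ᵁ V.1).ι := by
        intro D hD e hle
        subst e
        exact (hres V.1 V.2 g).symm
      exact key _ _ hfg _
  exact ⟨e, fun U hU => he ⟨U, hU⟩, fun e' he' => huniq e' fun U => he' U.1 U.2⟩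

include hP hP' in
theorem relProj_comp_eq (e : P ⟶ P') (he : ∀ (U : Y.Opens) (hU : IsAffineOpen U),
    (p ⁻¹ᵁ U).ι ≫ e = (chart U hU).hom ≫ (chart' U hU).inv ≫ (p' ⁻¹ᵁ U).ι) : e ≫ p' = p := by
  refine (Scheme.openCoverOfIsOpenCover P _ (TopologicalSpace.IsOpenCover.mk (iSup_preimage_affineOpens p))).hom_ext _ _
    fun U => ?_
  show (p ⁻¹ᵁ U.1).ι ≫ e ≫ p' = (p ⁻¹ᵁ U.1).ι ≫ p
  rw [reassoc_of% (he U.1 U.2), ← hP'.chart_over U.1 U.2, Iso.inv_hom_id_assoc, hP.chart_over U.1 U.2]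

end unique

theorem relProj_unique {P' : Scheme.{u}} {p' : P' ⟶ Y}
    {chart' : ∀ (U : Y.Opens) (hU : IsAffineOpen U), (((p' ⁻¹ᵁ U : P'.Opens) : Scheme.{u}) ≅ Proj (𝒮.deg U hU))}
    (hP : RelProj.IsRelProj 𝒮 p chart) (hP' : RelProj.IsRelProj 𝒮 p' chart') :
    (∃! e : P ⟶ P', ∀ (U : Y.Opens) (hU : IsAffineOpen U),
        (p ⁻¹ᵁ U).ι ≫ e = (chart U hU).hom ≫ (chart' U hU).inv ≫ (p' ⁻¹ᵁ U).ι) ∧
      ∀ e : P ⟶ P', (∀ (U : Y.Opens) (hU : IsAffineOpen U),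
        (p ⁻¹ᵁ U).ι ≫ e = (chart U hU).hom ≫ (chart' U hU).inv ≫ (p' ⁻¹ᵁ U).ι) → IsIso e ∧ e ≫ p' = p := by
  refine ⟨relProj_existsUnique hP hP', fun e he => ⟨?_, relProj_comp_eq hP hP' e he⟩⟩
  obtain ⟨e', he', -⟩ := relProj_existsUnique hP' hP
  refine ⟨e', ?_, ?_⟩
  · refine (Scheme.openCoverOfIsOpenCover P _ (TopologicalSpace.IsOpenCover.mk (iSup_preimage_affineOpens p))).hom_ext _ _
      fun U => ?_
    show (p ⁻¹ᵁ U.1).ι ≫ e ≫ e' = (p ⁻¹ᵁ U.1).ι ≫ 𝟙 P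
    rw [reassoc_of% (he U.1 U.2), he' U.1 U.2, Iso.inv_hom_id_assoc, Iso.hom_inv_id_assoc, Category.comp_id]
  · refine (Scheme.openCoverOfIsOpenCover P' _ (TopologicalSpace.IsOpenCover.mk (iSup_preimage_affineOpens p'))).hom_ext _ _
      fun U => ?_
    show (p' ⁻¹ᵁ U.1).ι ≫ e' ≫ e = (p' ⁻¹ᵁ U.1).ι ≫ 𝟙 P'
    rw [reassoc_of% (he' U.1 U.2), he U.1 U.2, Iso.inv_hom_id_assoc, Iso.hom_inv_id_assoc, Category.comp_id]

end Groth.Agent.EGA2Misc
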