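import Mathlib
import Groth.Prelude.Def_RelProj4
import Groth.Agent.EGA2Misc.RelProjBasic

/-!
# (TN)-surjective homomorphisms give closed immersions of relative `Proj`
-/

noncomputable section

universe u

open CategoryTheory CategoryTheory.Limits AlgebraicGeometry Opposite HomogeneousLocalization
open scoped HomogeneousIdeal

namespace Groth.Agent.EGA2Misc

variable {Y PA PB : Scheme.{u}} {𝒜 ℬ : RelProj.QCGrAlg Y}
  {φ : 𝒜.toQCAlg ⟶ ℬ.toQCAlg} {hφ : RelProj.IsGradedHom φ}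
  {pA : PA ⟶ Y} {chartA : ∀ (U : Y.Opens) (hU : IsAffineOpen U), (((pA ⁻¹ᵁ U : PA.Opens) : Scheme.{u}) ≅ Proj (𝒜.deg U hU))}
  {pB : PB ⟶ Y} {chartB : ∀ (U : Y.Opens) (hU : IsAffineOpen U), (((pB ⁻¹ᵁ U : PB.Opens) : Scheme.{u}) ≅ Proj (ℬ.deg U hU))}

theorem opensRange_emb {P : Scheme.{u}} {𝒮 : RelProj.QCGrAlg Y} (p : P ⟶ Y)
    (chart : ∀ (U : Y.Opens) (hU : IsAffineOpen U), (((p ⁻¹ᵁ U : P.Opens) : Scheme.{u}) ≅ Proj (𝒮.deg U hU)))
    (U : Y.Opens) (hU : IsAffineOpen U) : (RelProj.emb p chart U hU).opensRange = p ⁻¹ᵁ U := by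
  show ((chart U hU).inv ≫ (p ⁻¹ᵁ U).ι).opensRange = _
  rw [Scheme.Hom.opensRange_comp_of_isIso, Scheme.Opens.opensRange_ι]

theorem emb_comp {P : Scheme.{u}} {𝒮 : RelProj.QCGrAlg Y} {p : P ⟶ Y}
    {chart : ∀ (U : Y.Opens) (hU : IsAffineOpen U), (((p ⁻¹ᵁ U : P.Opens) : Scheme.{u}) ≅ Proj (𝒮.deg U hU))}
    (hP : RelProj.IsRelProj 𝒮 p chart) (U : Y.Opens) (hU : IsAffineOpen U) :
    RelProj.emb p chart U hU ≫ p = Proj.toSpecZero (𝒮.deg U hU) ≫ Spec.map (𝒮.strZero U hU) ≫ hU.fromSpec := by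
  rw [RelProj.emb, Category.assoc, ← hP.chart_over U hU, Iso.inv_hom_id_assoc]

theorem gradedAt_ofHom_apply (U : Y.Opens) (hU : IsAffineOpen U) (x : 𝒜.presheaf.obj (op U)) :
    (RelProj.QGrHom.ofHom φ hφ).gradedAt U hU U hU le_rfl x = (φ.hom.app (op U)).hom x := by
  show (φ.hom.app (op U) ≫ ℬ.presheaf.map (homOfLE (le_refl U)).op).hom x = _
  rw [show ℬ.presheaf.map (homOfLE (le_refl U)).op = 𝟙 _ from ℬ.presheaf.map_id _]
  rfl

variable (hA : RelProj.IsRelProj 𝒜 pA chartA) (hB : RelProj.IsRelProj ℬ pB chartB)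
  (hTN : ∃ n : ℕ, ∀ k, n ≤ k → ∀ (U : Y.Opens) (hU : IsAffineOpen U), ∀ y ∈ ℬ.deg U hU k,
    ∃ x ∈ 𝒜.deg U hU k, (φ.hom.app (op U)).hom x = y)

include hTN in
theorem exists_awayEmb_eq (U : Y.Opens) (hU : IsAffineOpen U) (x : PB) (hx : x ∈ pB ⁻¹ᵁ U) :
    ∃ (d : ℕ) (hd : 0 < d) (f : 𝒜.presheaf.obj (op U)) (hf : f ∈ 𝒜.deg U hU d),
      x ∈ Set.range (RelProj.awayEmb (RelProj.QGrHom.ofHom φ hφ) pB chartB U hU U hU le_rfl hd f hf).base := by
  obtain ⟨n, hn⟩ := hTN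
  rw [← opensRange_emb pB chartB U hU] at hx
  obtain ⟨w, hw⟩ := hx
  let c := (Proj.affineOpenCover (ℬ.deg U hU)).idx w
  obtain ⟨y, hy⟩ := (Proj.affineOpenCover (ℬ.deg U hU)).covers w
  have hle : n ≤ (n + 1) • (c.1 : ℕ) := le_trans (Nat.le_succ _) (Nat.le_mul_of_pos_right _ c.1.2)
  obtain ⟨a, ha, hae⟩ := hn _ hle U hU _ (SetLike.pow_mem_graded (n + 1) c.2.2)
  refine ⟨(n + 1) • (c.1 : ℕ), Nat.mul_pos n.succ_pos c.1.2, a, ha, ?_⟩
  have hw' : w ∈ Proj.basicOpen (ℬ.deg U hU) ((RelProj.QGrHom.ofHom φ hφ).gradedAt U hU U hU le_rfl a) := by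
    rw [gradedAt_ofHom_apply, hae, Proj.basicOpen_pow _ _ _ n.succ_pos,
      ← Proj.opensRange_awayι (ℬ.deg U hU) c.2.1 c.2.2 c.1.2]
    exact ⟨y, hy⟩
  obtain ⟨z, hz⟩ := (SetLike.ext_iff.1 (Proj.opensRange_awayι (ℬ.deg U hU) _
    (((RelProj.QGrHom.ofHom φ hφ).gradedAt U hU U hU le_rfl).map_mem ha) (Nat.mul_pos n.succ_pos c.1.2)) w).2 hw'
  refine ⟨z, ?_⟩
  rw [RelProj.awayEmb, Scheme.Hom.comp_apply]
  exact (congrArg _ hz).trans hw

include hTN in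
theorem domQ_ofHom_eq_top : RelProj.domQ (RelProj.QGrHom.ofHom φ hφ) pB chartB = ⊤ := by
  rw [eq_top_iff]
  intro x _
  obtain ⟨_, ⟨U, hU, rfl⟩, hxU, -⟩ :=
    Y.isBasis_affineOpens.exists_subset_of_mem_open (Set.mem_univ (pB x)) isOpen_univ
  obtain ⟨d, hd, f, hf, hx⟩ := exists_awayEmb_eq hTN U hU x hxU (hφ := hφ)
  have := RelProj.range_awayEmb_subset_domQ (RelProj.QGrHom.ofHom φ hφ) pB chartB U hU U hU le_rfl hd f hf hx
  rwa [Scheme.Opens.range_ι] at this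

variable {h : PB ⟶ PA}
  (hh : RelProj.IsProjQMap (RelProj.QGrHom.ofHom φ hφ) pA chartA pB chartB h)

include hA hB hh hTN in
theorem projQMap_comp : h ≫ pA = pB := by
  let J := Σ (U : Y.affineOpens) (d : {d : ℕ // 0 < d}), 𝒜.deg U.1 U.2 d.1
  let fc : ∀ j : J, _ ⟶ PB := fun j =>
    RelProj.awayEmb (RelProj.QGrHom.ofHom φ hφ) pB chartB j.1.1 j.1.2 j.1.1 j.1.2 le_rfl j.2.1.2 j.2.2.1 j.2.2.2
  have hoi : ∀ j, IsOpenImmersion (fc j) := fun j => by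
    simp only [fc, RelProj.awayEmb]; infer_instance
  have hcov : ∀ x : PB, ∃ j y, fc j y = x := by
    intro x
    obtain ⟨_, ⟨U, hU, rfl⟩, hxU, -⟩ :=
      Y.isBasis_affineOpens.exists_subset_of_mem_open (Set.mem_univ (pB x)) isOpen_univ
    obtain ⟨d, hd, f, hf, y, hy⟩ := exists_awayEmb_eq hTN U hU x hxU (hφ := hφ)
    exact ⟨⟨⟨U, hU⟩, ⟨d, hd⟩, ⟨f, hf⟩⟩, y, hy⟩
  refine (Scheme.Cover.mkOfCovers J _ fc hcov hoi : PB.OpenCover).hom_ext _ _ fun (j : J) => ?_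
  obtain ⟨⟨U, hU⟩, ⟨d, hd⟩, ⟨f, hf⟩⟩ := j
  show RelProj.awayEmb (RelProj.QGrHom.ofHom φ hφ) pB chartB U hU U hU le_rfl hd f hf ≫ h ≫ pA =
    RelProj.awayEmb (RelProj.QGrHom.ofHom φ hφ) pB chartB U hU U hU le_rfl hd f hf ≫ pB
  rw [reassoc_of% (hh.2 U hU U hU le_rfl d hd f hf), emb_comp hA, RelProj.awayEmb, Category.assoc,
    emb_comp hB, Proj.awayι_toSpecZero_assoc, Proj.awayι_toSpecZero_assoc, ← Spec.map_comp_assoc,
    ← Spec.map_comp_assoc, ← Spec.map_comp_assoc]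
  congr 2
  ext r
  obtain ⟨k, a, ha, he⟩ : ∃ (k : ℕ) (a : 𝒜.presheaf.obj (op U)) (ha : a ∈ 𝒜.deg U hU (k • d)),
      fromZeroRingHom (𝒜.deg U hU) (Submonoid.powers f) ((𝒜.strZero U hU).hom r) =
        Away.mk (𝒜.deg U hU) hf k a ha ∧ k = 0 ∧ a = (𝒜.str.app (op U)).hom r := by
    refine ⟨0, (𝒜.str.app (op U)).hom r, by rw [zero_smul]; exact 𝒜.str_mem U hU r, ?_, rfl, rfl⟩
    refine val_injective _ ?_
    rw [Away.val_mk]
    show Localization.mk _ _ = _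
    congr 1
    exact Subtype.ext (pow_zero f).symm
  obtain ⟨he, rfl, rfl⟩ := he
  show (Away.map _ f (fromZeroRingHom (𝒜.deg U hU) (Submonoid.powers f) ((𝒜.strZero U hU).hom r))).val = _
  rw [he, Away.map_mk, Away.val_mk]
  show Localization.mk _ _ = Localization.mk ((ℬ.str.app (op U)).hom r) _
  congr 1
  · rw [gradedAt_ofHom_apply]
    exact ConcreteCategory.congr_hom (NatTrans.congr_app φ.comm (op U)) r
  · exact Subtype.ext (pow_zero _)

include hA hB hh hTN in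
theorem isClosedImmersion_projQMap : IsClosedImmersion h := by
  have hcomp := projQMap_comp hA hB hTN hh
  obtain ⟨n, hn⟩ := hTN
  let J := Σ (U : Y.affineOpens) (d : {d : ℕ // 0 < d}), 𝒜.deg U.1 U.2 d.1
  let W : J → PA.Opens := fun j =>
    RelProj.emb pA chartA j.1.1 j.1.2 ''ᵁ Proj.basicOpen (𝒜.deg j.1.1 j.1.2) j.2.2.1
  have hcov : ⨆ j, W j = ⊤ := by
    rw [eq_top_iff]
    intro x _
    obtain ⟨_, ⟨U, hU, rfl⟩, hxU, -⟩ :=
      Y.isBasis_affineOpens.exists_subset_of_mem_open (Set.mem_univ (pA x)) isOpen_univ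
    obtain ⟨w, hw⟩ : x ∈ (RelProj.emb pA chartA U hU).opensRange := by rw [opensRange_emb]; exact hxU
    let c := (Proj.affineOpenCover (𝒜.deg U hU)).idx w
    obtain ⟨y, hy⟩ := (Proj.affineOpenCover (𝒜.deg U hU)).covers w
    refine TopologicalSpace.Opens.mem_iSup.2 ⟨⟨⟨U, hU⟩, ⟨c.1, c.1.2⟩, ⟨c.2.1, c.2.2⟩⟩, w, ?_, hw⟩
    rw [← Proj.opensRange_awayι (𝒜.deg U hU) c.2.1 c.2.2 c.1.2]
    exact ⟨y, hy⟩
  refine IsZariskiLocalAtTarget.of_iSup_eq_top (P := @IsClosedImmersion) W hcov fun j => ?_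
  obtain ⟨⟨U, hU⟩, ⟨d, hd⟩, ⟨f, hf⟩⟩ := j
  let g := (RelProj.QGrHom.ofHom φ hφ).gradedAt U hU U hU le_rfl
  let aE := RelProj.awayEmb (RelProj.QGrHom.ofHom φ hφ) pB chartB U hU U hU le_rfl hd f hf
  haveI : IsOpenImmersion aE := by simp only [aE, RelProj.awayEmb]; infer_instance
  have haE : aE ≫ h = Spec.map (CommRingCat.ofHom (Away.map g f)) ≫
      Proj.awayι (𝒜.deg U hU) f hf hd ≫ RelProj.emb pA chartA U hU := hh.2 U hU U hU le_rfl d hd f hf
  let W₀ := RelProj.emb pA chartA U hU ''ᵁ Proj.basicOpen (𝒜.deg U hU) f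
  have hrange : aE.opensRange = h ⁻¹ᵁ W₀ := by
    refine le_antisymm ?_ ?_
    · rintro _ ⟨y, rfl⟩
      show h (aE y) ∈ W₀
      rw [← Scheme.Hom.comp_apply, haE, Scheme.Hom.comp_apply, Scheme.Hom.comp_apply]
      refine ⟨_, ?_, rfl⟩
      rw [← Proj.opensRange_awayι (𝒜.deg U hU) f hf hd]
      exact ⟨_, rfl⟩
    · intro x hx
      obtain ⟨w, hw, hwx⟩ := hx
      have hxU : x ∈ pB ⁻¹ᵁ U := by
        show pB x ∈ U
        rw [← hcomp, Scheme.Hom.comp_apply, ← hwx]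
        have : RelProj.emb pA chartA U hU w ∈ (RelProj.emb pA chartA U hU).opensRange := ⟨w, rfl⟩
        rwa [opensRange_emb] at this
      obtain ⟨e, he, a, ha, y, hy⟩ := exists_awayEmb_eq ⟨n, hn⟩ U hU x hxU (hφ := hφ) (chartB := chartB)
      subst hy
      rw [← Scheme.Hom.comp_apply, hh.2 U hU U hU le_rfl e he a ha, Scheme.Hom.comp_apply,
        Scheme.Hom.comp_apply] at hwx
      have hw' : w = Proj.awayι (𝒜.deg U hU) a ha he (Spec.map (CommRingCat.ofHom (Away.map g a)) y) :=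
        (RelProj.emb pA chartA U hU).isOpenEmbedding.injective hwx
      subst hw'
      have h1 := (SetLike.ext_iff.1 (Proj.awayι_preimage_basicOpen (𝒜.deg U hU) ha he hf hd) _).1 hw
      have h2 : y ∈ Proj.awayι (ℬ.deg U hU) (g a) (g.map_mem ha) he ⁻¹ᵁ Proj.basicOpen (ℬ.deg U hU) (g f) := by
        refine (SetLike.ext_iff.1 (Proj.awayι_preimage_basicOpen (ℬ.deg U hU) (g.map_mem ha) he
          (g.map_mem hf) hd) y).2 ?_
        have h1' : Away.map g a (Away.isLocalizationElem ha hf) ∉ y.asIdeal := h1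
        rw [Away.isLocalizationElem, Away.map_mk] at h1'
        simpa [Away.isLocalizationElem, map_pow] using! h1'
      have h3 : Proj.awayι (ℬ.deg U hU) (g a) (g.map_mem ha) he y ∈ Proj.basicOpen (ℬ.deg U hU) (g f) := h2
      rw [← Proj.opensRange_awayι (ℬ.deg U hU) (g f) (g.map_mem hf) hd] at h3
      obtain ⟨z, hz⟩ := h3
      refine ⟨z, ?_⟩
      show aE z = _
      simp only [aE, RelProj.awayEmb, Scheme.Hom.comp_apply]
      exact congrArg _ hz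
  haveI : IsClosedImmersion (Spec.map (CommRingCat.ofHom (Away.map g f))) := by
    refine IsClosedImmersion.spec_of_surjective _ fun q => ?_
    obtain ⟨k, b, hb, rfl⟩ := Away.mk_surjective (ℬ.deg U hU) (g.map_mem hf) q
    have hmem : b * g f ^ n ∈ ℬ.deg U hU ((k + n) • d) := by
      rw [add_smul]; exact SetLike.mul_mem_graded hb (SetLike.pow_mem_graded n (g.map_mem hf))
    obtain ⟨a, ha, hae⟩ := hn _ (le_trans (Nat.le_add_left _ _) (Nat.le_mul_of_pos_right _ hd)) U hU _ hmem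
    refine ⟨Away.mk (𝒜.deg U hU) hf (k + n) a ha, ?_⟩
    refine val_injective _ ?_
    show (Away.map g f _).val = _
    rw [Away.map_mk, Away.val_mk, Away.val_mk, Localization.mk_eq_mk_iff, Localization.r_iff_exists]
    refine ⟨1, ?_⟩
    have : g a = b * g f ^ n := (gradedAt_ofHom_apply U hU a).trans hae
    simp only [this, OneMemClass.coe_one, one_mul, pow_add]
    exact (by intro t; ring : ∀ t : ℬ.presheaf.obj (op U), t ^ k * (b * t ^ n) = t ^ k * t ^ n * b) (g f)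
  let e := aE.isoOpensRange ≪≫ Scheme.isoOfEq _ hrange
  refine (MorphismProperty.cancel_left_of_respectsIso @IsClosedImmersion e.hom _).1 ?_
  let a' := IsOpenImmersion.lift W₀.ι (Proj.awayι (𝒜.deg U hU) f hf hd ≫ RelProj.emb pA chartA U hU) (by
    rw [Scheme.Opens.range_ι]
    rintro _ ⟨y, rfl⟩
    refine ⟨_, ?_, rfl⟩
    rw [← Proj.opensRange_awayι (𝒜.deg U hU) f hf hd]
    exact ⟨y, rfl⟩)
  have hrange' : Set.range W₀.ι.base ⊆
      Set.range (Proj.awayι (𝒜.deg U hU) f hf hd ≫ RelProj.emb pA chartA U hU).base := by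
    rw [Scheme.Opens.range_ι]
    rintro _ ⟨w, hw, rfl⟩
    rw [← Proj.opensRange_awayι (𝒜.deg U hU) f hf hd] at hw
    obtain ⟨y, rfl⟩ := hw
    exact ⟨y, rfl⟩
  haveI : IsIso a' := by
    refine ⟨IsOpenImmersion.lift _ W₀.ι hrange', ?_, ?_⟩
    · rw [← cancel_mono (Proj.awayι (𝒜.deg U hU) f hf hd ≫ RelProj.emb pA chartA U hU), Category.assoc,
        IsOpenImmersion.lift_fac, IsOpenImmersion.lift_fac, Category.id_comp]
    · rw [← cancel_mono W₀.ι, Category.assoc, IsOpenImmersion.lift_fac, IsOpenImmersion.lift_fac,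
        Category.id_comp]
  have h1 : e.hom ≫ h ∣_ W₀ = Spec.map (CommRingCat.ofHom (Away.map g f)) ≫ a' := by
    rw [← cancel_mono W₀.ι, Category.assoc, morphismRestrict_ι, Category.assoc, IsOpenImmersion.lift_fac]
    refine Eq.trans ?_ haE
    simp only [e, Iso.trans_hom, Category.assoc, Scheme.isoOfEq_hom_ι_assoc,
      Scheme.Hom.isoOpensRange_hom_ι_assoc]
  rw [h1]
  exact (MorphismProperty.cancel_right_of_respectsIso @IsClosedImmersion _ a').2 inferInstance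

end Groth.Agent.EGA2Misc
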