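import Mathlib
import Groth.Prelude.Def_RelProj4
import Groth.Agent.EGA2Misc.RelProjBasic
import Groth.Agent.EGA2Misc.ProjPartial
import Groth.Agent.EGA2Misc.ProjTN

/-!
# Existence and uniqueness of the morphism of relative `Proj`'s on its open of definition
-/

noncomputable section

universe u

open CategoryTheory CategoryTheory.Limits AlgebraicGeometry Opposite HomogeneousLocalization
open scoped HomogeneousIdeal

namespace Groth.Agent.EGA2Misc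

section Ring

variable {A B : Type u} [CommRing A] [CommRing B] {𝒜 : ℕ → AddSubgroup A} [GradedRing 𝒜]
  {ℬ : ℕ → AddSubgroup B} [GradedRing ℬ]

theorem exists_awayι_map (ψ : 𝒜 →+*ᵍ ℬ) (hψ : ℬ₊ ≤ 𝒜₊.map ψ) {d : ℕ} (hd : 0 < d) {x : A} {y : B}
    (hx : x ∈ 𝒜 d) (hy : y ∈ ℬ d) (e : ψ x = y) :
    ∃ ω : Away 𝒜 x →+* Away ℬ y,
      Proj.awayι ℬ y hy hd ≫ Proj.map ψ hψ = Spec.map (CommRingCat.ofHom ω) ≫ Proj.awayι 𝒜 x hx hd ∧
      ∀ (n : ℕ) (a : A) (ha : a ∈ 𝒜 (n • d)),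
        ω (Away.mk 𝒜 hx n a ha) = Away.mk ℬ hy n (ψ a) (ψ.map_mem ha) := by
  subst e
  exact ⟨Away.map ψ x, Proj.awayι_comp_map ψ hψ hd x hx, fun n a ha => Away.map_mk _ _ _ _ _ _⟩

theorem awayι_congr_deg {k k' : ℕ} {x : A} (hk : x ∈ 𝒜 k) (h0 : 0 < k) (hk' : x ∈ 𝒜 k') (h0' : 0 < k')
    (e : k = k') : Proj.awayι 𝒜 x hk h0 = Proj.awayι 𝒜 x hk' h0' := by
  subst e
  rfl

end Ring

variable {Y Y' P P' : Scheme.{u}} {g : Y' ⟶ Y} {𝒮 : RelProj.QCGrAlg Y} {𝒮' : RelProj.QCGrAlg Y'}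
  (u : RelProj.QGrHom g 𝒮 𝒮') {p : P ⟶ Y}
  {chart : ∀ (U : Y.Opens) (hU : IsAffineOpen U), (((p ⁻¹ᵁ U : P.Opens) : Scheme.{u}) ≅ Proj (𝒮.deg U hU))}
  {p' : P' ⟶ Y'}
  {chart' : ∀ (U : Y'.Opens) (hU : IsAffineOpen U), (((p' ⁻¹ᵁ U : P'.Opens) : Scheme.{u}) ≅ Proj (𝒮'.deg U hU))}

variable (p chart) in
/-- The prescribed value of `Proj(u)` on a standard chart. -/
abbrev tgt (U : Y.Opens) (hU : IsAffineOpen U) (U' : Y'.Opens) (hU' : IsAffineOpen U') (hle : U' ≤ g ⁻¹ᵁ U)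
    {d : ℕ} (hd : 0 < d) (f : 𝒮.presheaf.obj (op U)) (hf : f ∈ 𝒮.deg U hU d) :
    Spec (CommRingCat.of (Away (𝒮'.deg U' hU') (u.gradedAt U hU U' hU' hle f))) ⟶ P :=
  Spec.map (CommRingCat.ofHom (Away.map (u.gradedAt U hU U' hU' hle) f)) ≫
    Proj.awayι (𝒮.deg U hU) f hf hd ≫ RelProj.emb p chart U hU

theorem emb_res {P : Scheme.{u}} {𝒮 : RelProj.QCGrAlg Y} {p : P ⟶ Y}
    {chart : ∀ (U : Y.Opens) (hU : IsAffineOpen U), (((p ⁻¹ᵁ U : P.Opens) : Scheme.{u}) ≅ Proj (𝒮.deg U hU))}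
    (hP : RelProj.IsRelProj 𝒮 p chart) (U : Y.Opens) (hU : IsAffineOpen U) (r : Γ(Y, U)) :
    RelProj.emb p chart (Y.basicOpen r) (hU.basicOpen r) =
      Proj.map (𝒮.res hU (hU.basicOpen r) (Y.basicOpen_le r)) (𝒮.irrelevant_le_map U hU r) ≫
        RelProj.emb p chart U hU := by
  show (chart _ _).inv ≫ _ = _ ≫ (chart U hU).inv ≫ _
  rw [Iso.inv_comp_eq, ← reassoc_of% (hP.chart_res U hU r), Iso.hom_inv_id_assoc, Scheme.homOfLE_ι]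

variable (hP : RelProj.IsRelProj 𝒮 p chart) (hP' : RelProj.IsRelProj 𝒮' p' chart')

include hP hP' in
/-- Restriction to basic opens of both bases. -/
theorem chart_restrict (U : Y.Opens) (hU : IsAffineOpen U) (U' : Y'.Opens) (hU' : IsAffineOpen U')
    (hle : U' ≤ g ⁻¹ᵁ U) {d : ℕ} (hd : 0 < d) (f : 𝒮.presheaf.obj (op U)) (hf : f ∈ 𝒮.deg U hU d)
    (V : Y.Opens) (hV : IsAffineOpen V) (r : Γ(Y, U)) (eV : V = Y.basicOpen r) (hVU : V ≤ U)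
    (V' : Y'.Opens) (hV' : IsAffineOpen V') (r' : Γ(Y', U')) (eV' : V' = Y'.basicOpen r') (hVU' : V' ≤ U')
    (hle' : V' ≤ g ⁻¹ᵁ V) :
    ∃ σ, RelProj.awayEmb u p' chart' V hV V' hV' hle' hd (𝒮.res hU hV hVU f)
          ((𝒮.res hU hV hVU).map_mem hf) =
        σ ≫ RelProj.awayEmb u p' chart' U hU U' hU' hle hd f hf ∧
      tgt u p chart V hV V' hV' hle' hd (𝒮.res hU hV hVU f) ((𝒮.res hU hV hVU).map_mem hf) =
        σ ≫ tgt u p chart U hU U' hU' hle hd f hf := by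
  subst eV eV'
  let u1 := u.gradedAt U hU U' hU' hle
  let u3 := u.gradedAt (Y.basicOpen r) hV (Y'.basicOpen r') hV' hle'
  have hsq : ∀ a, 𝒮'.res hU' hV' hVU' (u1 a) = u3 (𝒮.res hU hV hVU a) := by
    intro a
    show (u.appLE U U' hle ≫ 𝒮'.presheaf.map (homOfLE hVU').op).hom a =
      (𝒮.presheaf.map (homOfLE hVU).op ≫ u.appLE _ _ hle').hom a
    rw [RelSpec.QHom.map_appLE, RelSpec.QHom.appLE_map]
  obtain ⟨ω, hω1, hω2⟩ := exists_awayι_map (𝒮'.res hU' hV' hVU') (𝒮'.irrelevant_le_map U' hU' r') hd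
    (u1.map_mem hf) (u3.map_mem ((𝒮.res hU hV hVU).map_mem hf)) (hsq f)
  refine ⟨Spec.map (CommRingCat.ofHom ω), ?_, ?_⟩
  · rw [RelProj.awayEmb, RelProj.awayEmb, emb_res hP' U' hU' r']
    exact (Category.assoc _ _ _).symm.trans ((congrArg (· ≫ _) hω1).trans (Category.assoc _ _ _))
  · have hcomp : (Away.map u3 (𝒮.res hU hV hVU f)).comp (Away.map (𝒮.res hU hV hVU) f) =
        ω.comp (Away.map u1 f) := by
      refine RingHom.ext fun q => ?_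
      obtain ⟨n, a, ha, rfl⟩ := Away.mk_surjective (𝒮.deg U hU) hf q
      rw [RingHom.comp_apply, RingHom.comp_apply, Away.map_mk, Away.map_mk, Away.map_mk, hω2]
      apply HomogeneousLocalization.val_injective
      rw [Away.val_mk, Away.val_mk]
      congr 1
      exact (hsq a).symm
    simp only [tgt]
    rw [emb_res hP U hU r]
    refine (congrArg (Spec.map (CommRingCat.ofHom (Away.map u3 (𝒮.res hU hV hVU f))) ≫ ·)
      (((Category.assoc _ _ _).symm.trans (congrArg (· ≫ RelProj.emb p chart U hU)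
        (Proj.awayι_comp_map (𝒮.res hU hV hVU) (𝒮.irrelevant_le_map U hU r) hd f hf))).trans
        (Category.assoc _ _ _))).trans ?_
    rw [← Spec.map_comp_assoc, ← Spec.map_comp_assoc, ← CommRingCat.ofHom_comp, ← CommRingCat.ofHom_comp, hcomp]

/-- Multiplication by a homogeneous element. -/
theorem chart_mul (U : Y.Opens) (hU : IsAffineOpen U) (U' : Y'.Opens) (hU' : IsAffineOpen U')
    (hle : U' ≤ g ⁻¹ᵁ U) {d e k : ℕ} (hd : 0 < d) (hk : 0 < k) (f c x : 𝒮.presheaf.obj (op U))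
    (hf : f ∈ 𝒮.deg U hU d) (hc : c ∈ 𝒮.deg U hU e) (hx : x = f * c) (hxk : x ∈ 𝒮.deg U hU k) (hke : k = d + e) :
    ∃ σ, RelProj.awayEmb u p' chart' U hU U' hU' hle hk x hxk =
        σ ≫ RelProj.awayEmb u p' chart' U hU U' hU' hle hd f hf ∧
      tgt u p chart U hU U' hU' hle hk x hxk = σ ≫ tgt u p chart U hU U' hU' hle hd f hf := by
  subst hke
  let ψ := u.gradedAt U hU U' hU' hle
  have hy : ψ x = ψ f * ψ c := by rw [hx, map_mul]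
  refine ⟨Spec.map (CommRingCat.ofHom (awayMap (𝒮'.deg U' hU') (ψ.map_mem hc) hy)), ?_, ?_⟩
  · rw [RelProj.awayEmb, RelProj.awayEmb]
    exact ((congrArg (· ≫ RelProj.emb p' chart' U' hU')
      (Proj.SpecMap_awayMap_awayι (𝒜 := 𝒮'.deg U' hU') (f_deg := ψ.map_mem hf) (hm := hd)
        (g_deg := ψ.map_mem hc) (hx := hy))).symm.trans (Category.assoc _ _ _))
  · simp only [tgt]
    rw [← Spec.map_comp_assoc, ← CommRingCat.ofHom_comp, awayMap_map ψ hf hc hx, CommRingCat.ofHom_comp,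
      Spec.map_comp_assoc, Proj.SpecMap_awayMap_awayι_assoc]

/-- indices of the standard charts of `G(u)` -/
def ChartIdx : Type u :=
  Σ (V : {V : Y.affineOpens × Y'.affineOpens // (V.2 : Y'.Opens) ≤ g ⁻¹ᵁ (V.1 : Y.Opens)})
    (d : {d : ℕ // 0 < d}), 𝒮.deg V.1.1.1 V.1.1.2 d.1

variable (p' chart') in
/-- the standard chart, into `G(u)` -/
def domChart (U : Y.Opens) (hU : IsAffineOpen U) (U' : Y'.Opens) (hU' : IsAffineOpen U') (hle : U' ≤ g ⁻¹ᵁ U)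
    {d : ℕ} (hd : 0 < d) (f : 𝒮.presheaf.obj (op U)) (hf : f ∈ 𝒮.deg U hU d) :
    Spec (CommRingCat.of (Away (𝒮'.deg U' hU') (u.gradedAt U hU U' hU' hle f))) ⟶
      (RelProj.domQ u p' chart' : P'.Opens) :=
  IsOpenImmersion.lift (RelProj.domQ u p' chart').ι (RelProj.awayEmb u p' chart' U hU U' hU' hle hd f hf)
    (RelProj.range_awayEmb_subset_domQ u p' chart' U hU U' hU' hle hd f hf)

theorem domChart_ι (U : Y.Opens) (hU : IsAffineOpen U) (U' : Y'.Opens) (hU' : IsAffineOpen U')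
    (hle : U' ≤ g ⁻¹ᵁ U) {d : ℕ} (hd : 0 < d) (f : 𝒮.presheaf.obj (op U)) (hf : f ∈ 𝒮.deg U hU d) :
    domChart u p' chart' U hU U' hU' hle hd f hf ≫ (RelProj.domQ u p' chart').ι =
      RelProj.awayEmb u p' chart' U hU U' hU' hle hd f hf :=
  IsOpenImmersion.lift_fac _ _ _

instance (U : Y.Opens) (hU : IsAffineOpen U) (U' : Y'.Opens) (hU' : IsAffineOpen U')
    (hle : U' ≤ g ⁻¹ᵁ U) {d : ℕ} (hd : 0 < d) (f : 𝒮.presheaf.obj (op U)) (hf : f ∈ 𝒮.deg U hU d) :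
    IsOpenImmersion (domChart u p' chart' U hU U' hU' hle hd f hf) :=
  haveI : IsOpenImmersion (domChart u p' chart' U hU U' hU' hle hd f hf ≫ (RelProj.domQ u p' chart').ι) := by
    rw [domChart_ι]; simp only [RelProj.awayEmb]; infer_instance
  IsOpenImmersion.of_comp _ (RelProj.domQ u p' chart').ι

theorem domChart_cover (x : (RelProj.domQ u p' chart' : P'.Opens)) :
    ∃ (U : Y.Opens) (hU : IsAffineOpen U) (U' : Y'.Opens) (hU' : IsAffineOpen U') (hle : U' ≤ g ⁻¹ᵁ U)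
      (d : ℕ) (hd : 0 < d) (f : 𝒮.presheaf.obj (op U)) (hf : f ∈ 𝒮.deg U hU d),
      x ∈ (domChart u p' chart' U hU U' hU' hle hd f hf).opensRange := by
  obtain ⟨⟨⟨⟨U, hU⟩, ⟨U', hU'⟩⟩, hle⟩, w, hw, hwx⟩ := TopologicalSpace.Opens.mem_iSup.1 x.2
  obtain ⟨a, ha, haw⟩ := (RelCone.mem_domOpen _ w).1 hw
  obtain ⟨d, f, hd, hf, hfw⟩ : ∃ (d : ℕ) (f : 𝒮.presheaf.obj (op U)), 0 < d ∧ f ∈ 𝒮.deg U hU d ∧
      u.gradedAt U hU U' hU' hle f ∉ w.asHomogeneousIdeal := by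
    by_contra hall
    push Not at hall
    have hle' : (HomogeneousIdeal.irrelevant (𝒮.deg U hU)).toIdeal ≤
        w.asHomogeneousIdeal.toIdeal.comap (u.gradedAt U hU U' hU' hle) :=
      (HomogeneousIdeal.toIdeal_irrelevant_le _).2 fun i hi b hb => hall i b hi hb
    exact haw (hle' ha)
  refine ⟨U, hU, U', hU', hle, d, hd, f, hf, ?_⟩
  obtain ⟨z, hz⟩ := (SetLike.ext_iff.1 (Proj.opensRange_awayι (𝒮'.deg U' hU') _
    ((u.gradedAt U hU U' hU' hle).map_mem hf) hd) w).2 hfw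
  refine ⟨z, (RelProj.domQ u p' chart').ι.isOpenEmbedding.injective ?_⟩
  rw [← Scheme.Hom.comp_apply, domChart_ι, RelProj.awayEmb, Scheme.Hom.comp_apply]
  exact (congrArg _ hz).trans hwx

theorem mem_domChart (x : (RelProj.domQ u p' chart' : P'.Opens))
    (U : Y.Opens) (hU : IsAffineOpen U) (U' : Y'.Opens) (hU' : IsAffineOpen U')
    (hle : U' ≤ g ⁻¹ᵁ U) {d : ℕ} (hd : 0 < d) (f : 𝒮.presheaf.obj (op U)) (hf : f ∈ 𝒮.deg U hU d) :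
    x ∈ (domChart u p' chart' U hU U' hU' hle hd f hf).opensRange ↔
      x.1 ∈ RelProj.emb p' chart' U' hU' ''ᵁ
        Proj.basicOpen (𝒮'.deg U' hU') (u.gradedAt U hU U' hU' hle f) := by
  constructor
  · rintro ⟨z, rfl⟩
    refine ⟨Proj.awayι (𝒮'.deg U' hU') _ ((u.gradedAt U hU U' hU' hle).map_mem hf) hd z, ?_, ?_⟩
    · exact (SetLike.ext_iff.1 (Proj.opensRange_awayι (𝒮'.deg U' hU') _
        ((u.gradedAt U hU U' hU' hle).map_mem hf) hd) _).1 ⟨z, rfl⟩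
    · show _ = (RelProj.domQ u p' chart').ι (domChart u p' chart' U hU U' hU' hle hd f hf z)
      rw [← Scheme.Hom.comp_apply (domChart u p' chart' U hU U' hU' hle hd f hf), domChart_ι,
        RelProj.awayEmb, Scheme.Hom.comp_apply]
      rfl
  · rintro ⟨w, hw, hwx⟩
    obtain ⟨z, hz⟩ := (SetLike.ext_iff.1 (Proj.opensRange_awayι (𝒮'.deg U' hU') _
      ((u.gradedAt U hU U' hU' hle).map_mem hf) hd) w).2 hw
    refine ⟨z, (RelProj.domQ u p' chart').ι.isOpenEmbedding.injective ?_⟩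
    rw [← Scheme.Hom.comp_apply, domChart_ι, RelProj.awayEmb, Scheme.Hom.comp_apply]
    exact (congrArg _ hz).trans hwx

include hP' in
theorem preimage_emb_basicOpen (U' : Y'.Opens) (hU' : IsAffineOpen U') (V' : Y'.Opens)
    (hV' : IsAffineOpen V') (r' : Γ(Y', U')) (eV' : V' = Y'.basicOpen r') (hVU' : V' ≤ U')
    (y : P') (hy : p' y ∈ V') (b : 𝒮'.presheaf.obj (op U'))
    (hb : y ∈ RelProj.emb p' chart' U' hU' ''ᵁ Proj.basicOpen (𝒮'.deg U' hU') b) :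
    y ∈ RelProj.emb p' chart' V' hV' ''ᵁ Proj.basicOpen (𝒮'.deg V' hV') (𝒮'.res hU' hV' hVU' b) := by
  subst eV'
  obtain ⟨w, rfl⟩ : y ∈ (RelProj.emb p' chart' (Y'.basicOpen r') hV').opensRange := by
    rw [opensRange_emb]; exact hy
  obtain ⟨v, hv, hvw⟩ := hb
  refine ⟨w, ?_, rfl⟩
  show w ∈ Proj.map (𝒮'.res hU' hV' hVU') (𝒮'.irrelevant_le_map U' hU' r') ⁻¹ᵁ Proj.basicOpen (𝒮'.deg U' hU') b
  have h1 : RelProj.emb p' chart' U' hU' (Proj.map (𝒮'.res hU' hV' hVU') (𝒮'.irrelevant_le_map U' hU' r') w) =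
      RelProj.emb p' chart' U' hU' v := by
    refine (Scheme.Hom.comp_apply _ _ _).symm.trans ?_
    rw [← emb_res hP' U' hU' r']
    exact hvw.symm
  show Proj.map _ _ w ∈ Proj.basicOpen (𝒮'.deg U' hU') b
  rw [(RelProj.emb p' chart' U' hU').isOpenEmbedding.injective h1]
  exact hv

include hP hP' in
theorem existsUnique_projQMapOn :
    ∃! v : ((RelProj.domQ u p' chart' : P'.Opens) : Scheme.{u}) ⟶ P,
      RelProj.IsProjQMapOn u p chart p' chart' (RelProj.domQ u p' chart') v := by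
  let J : Type u := ChartIdx (g := g) (𝒮 := 𝒮)
  let src : J → Scheme.{u} := fun j => Spec (CommRingCat.of (Away (𝒮'.deg j.1.1.2.1 j.1.1.2.2)
    (u.gradedAt j.1.1.1.1 j.1.1.1.2 j.1.1.2.1 j.1.1.2.2 j.1.2 j.2.2.1)))
  let c : ∀ j : J, src j ⟶ (RelProj.domQ u p' chart' : P'.Opens) := fun j =>
    domChart u p' chart' j.1.1.1.1 j.1.1.1.2 j.1.1.2.1 j.1.1.2.2 j.1.2 j.2.1.2 j.2.2.1 j.2.2.2
  have hc : ∀ j, IsOpenImmersion (c j) := fun j => by simp only [c]; infer_instance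
  let T : ∀ j : J, src j ⟶ P := fun j =>
    tgt u p chart j.1.1.1.1 j.1.1.1.2 j.1.1.2.1 j.1.1.2.2 j.1.2 j.2.1.2 j.2.2.1 j.2.2.2
  let O : J → (RelProj.domQ u p' chart' : P'.Opens).toScheme.Opens := fun j =>
    haveI := hc j; (c j).opensRange
  have hO : ⨆ j, O j = ⊤ := by
    rw [eq_top_iff]
    intro x _
    obtain ⟨U, hU, U', hU', hle, d, hd, f, hf, hx⟩ := domChart_cover u x
    exact TopologicalSpace.Opens.mem_iSup.2 ⟨⟨⟨(⟨U, hU⟩, ⟨U', hU'⟩), hle⟩, ⟨d, hd⟩, ⟨f, hf⟩⟩, hx⟩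
  obtain ⟨v, hv, hvu⟩ := exists_hom_of_agree O hO (fun j => haveI := hc j; (c j).isoOpensRange.inv ≫ T j) (by
    rintro ⟨⟨⟨⟨U₁, hU₁⟩, ⟨U₁', hU₁'⟩⟩, hle₁⟩, ⟨d₁, hd₁⟩, ⟨f₁, hf₁⟩⟩
      ⟨⟨⟨⟨U₂, hU₂⟩, ⟨U₂', hU₂'⟩⟩, hle₂⟩, ⟨d₂, hd₂⟩, ⟨f₂, hf₂⟩⟩ x ⟨hx₁, hx₂⟩
    have hm₁ := (mem_domChart u x U₁ hU₁ U₁' hU₁' hle₁ hd₁ f₁ hf₁).1 hx₁
    have hm₂ := (mem_domChart u x U₂ hU₂ U₂' hU₂' hle₂ hd₂ f₂ hf₂).1 hx₂
    have hp'mem : ∀ (U' : Y'.Opens) (hU' : IsAffineOpen U') (b : 𝒮'.presheaf.obj (op U')),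
        x.1 ∈ RelProj.emb p' chart' U' hU' ''ᵁ Proj.basicOpen (𝒮'.deg U' hU') b → p' x.1 ∈ U' := by
      rintro U' hU' b ⟨w, -, hw⟩
      have : RelProj.emb p' chart' U' hU' w ∈ (RelProj.emb p' chart' U' hU').opensRange := ⟨w, rfl⟩
      rw [opensRange_emb] at this
      rw [← hw]
      exact this
    have hy₁ : p' x.1 ∈ U₁' := hp'mem U₁' hU₁' _ hm₁
    have hy₂ : p' x.1 ∈ U₂' := hp'mem U₂' hU₂' _ hm₂
    obtain ⟨r₁, r₂, hr, hVx⟩ := exists_basicOpen_le_affine_inter hU₁ hU₂ (g (p' x.1)) ⟨hle₁ hy₁, hle₂ hy₂⟩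
    obtain ⟨s, hs, hsx⟩ := hU₁'.exists_basicOpen_le (V := g ⁻¹ᵁ Y.basicOpen r₁) ⟨p' x.1, hVx⟩ hy₁
    obtain ⟨s₁, s₂, hs12, hVx'⟩ :=
      exists_basicOpen_le_affine_inter (hU₁'.basicOpen s) hU₂' (p' x.1) ⟨hsx, hy₂⟩
    obtain ⟨t₁, ht₁⟩ := hU₁'.basicOpen_basicOpen_is_basicOpen s s₁
    have hV := hU₁.basicOpen r₁
    have hV' := (hU₁'.basicOpen s).basicOpen s₁
    have hle₃ : Y'.basicOpen s₁ ≤ g ⁻¹ᵁ Y.basicOpen r₁ := (Y'.basicOpen_le s₁).trans hs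
    have hVU₁ : Y.basicOpen r₁ ≤ U₁ := Y.basicOpen_le r₁
    have hVU₂ : Y.basicOpen r₁ ≤ U₂ := hr ▸ Y.basicOpen_le r₂
    have hVU₁' : Y'.basicOpen s₁ ≤ U₁' := (Y'.basicOpen_le s₁).trans (Y'.basicOpen_le s)
    have hVU₂' : Y'.basicOpen s₁ ≤ U₂' := hs12 ▸ Y'.basicOpen_le s₂
    let g₁ := 𝒮.res hU₁ hV hVU₁ f₁
    let g₂ := 𝒮.res hU₂ hV hVU₂ f₂
    have hg₁ : g₁ ∈ 𝒮.deg _ hV d₁ := (𝒮.res hU₁ hV hVU₁).map_mem hf₁
    have hg₂ : g₂ ∈ 𝒮.deg _ hV d₂ := (𝒮.res hU₂ hV hVU₂).map_mem hf₂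
    have h0 : 0 < d₁ + d₂ := Nat.add_pos_left hd₁ _
    have hg : g₁ * g₂ ∈ 𝒮.deg _ hV (d₁ + d₂) := SetLike.mul_mem_graded hg₁ hg₂
    obtain ⟨a₁, ha₁, hb₁⟩ := chart_restrict u hP hP' U₁ hU₁ U₁' hU₁' hle₁ hd₁ f₁ hf₁ _ hV r₁ rfl hVU₁
      _ hV' t₁ ht₁.symm hVU₁' hle₃
    obtain ⟨a₂, ha₂, hb₂⟩ := chart_restrict u hP hP' U₂ hU₂ U₂' hU₂' hle₂ hd₂ f₂ hf₂ _ hV r₂ hr hVU₂
      _ hV' s₂ hs12 hVU₂' hle₃
    obtain ⟨c₁, hc₁, he₁⟩ := chart_mul (p := p) (chart := chart) (p' := p') (chart' := chart') u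
      _ hV _ hV' hle₃ hd₁ h0 g₁ g₂ _ hg₁ hg₂ rfl hg rfl
    obtain ⟨c₂, hc₂, he₂⟩ := chart_mul (p := p) (chart := chart) (p' := p') (chart' := chart') u
      _ hV _ hV' hle₃ hd₂ h0 g₂ g₁ _ hg₂ hg₁ (mul_comm g₁ g₂) hg (add_comm d₁ d₂)
    have hx₃ : x ∈ (domChart u p' chart' _ hV _ hV' hle₃ h0 (g₁ * g₂) hg).opensRange := by
      refine (mem_domChart u x _ hV _ hV' hle₃ h0 (g₁ * g₂) hg).2 ?_
      have A₁ : x.1 ∈ RelProj.emb p' chart' _ hV' ''ᵁ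
          Proj.basicOpen (𝒮'.deg _ hV') (u.gradedAt _ hV _ hV' hle₃ g₁) := by
        have := preimage_emb_basicOpen hP' U₁' hU₁' _ hV' t₁ ht₁.symm hVU₁' x.1 hVx' _ hm₁
        convert this using 3
        show (𝒮.presheaf.map (homOfLE hVU₁).op ≫ u.appLE _ _ hle₃).hom f₁ =
          (u.appLE U₁ U₁' hle₁ ≫ 𝒮'.presheaf.map (homOfLE hVU₁').op).hom f₁
        rw [RelSpec.QHom.map_appLE, RelSpec.QHom.appLE_map]
      have A₂ : x.1 ∈ RelProj.emb p' chart' _ hV' ''ᵁ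
          Proj.basicOpen (𝒮'.deg _ hV') (u.gradedAt _ hV _ hV' hle₃ g₂) := by
        have := preimage_emb_basicOpen hP' U₂' hU₂' _ hV' s₂ hs12 hVU₂' x.1 hVx' _ hm₂
        convert this using 3
        show (𝒮.presheaf.map (homOfLE hVU₂).op ≫ u.appLE _ _ hle₃).hom f₂ =
          (u.appLE U₂ U₂' hle₂ ≫ 𝒮'.presheaf.map (homOfLE hVU₂').op).hom f₂
        rw [RelSpec.QHom.map_appLE, RelSpec.QHom.appLE_map]
      obtain ⟨w₁, hw₁, e₁⟩ := A₁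
      obtain ⟨w₂, hw₂, e₂⟩ := A₂
      have he : w₂ = w₁ := (RelProj.emb p' chart' _ hV').isOpenEmbedding.injective (e₂.trans e₁.symm)
      subst he
      refine ⟨w₂, ?_, e₂⟩
      show w₂ ∈ Proj.basicOpen _ _
      rw [map_mul, Proj.basicOpen_mul]
      exact ⟨hw₁, hw₂⟩
    let j₁ : J := ⟨⟨(⟨U₁, hU₁⟩, ⟨U₁', hU₁'⟩), hle₁⟩, ⟨d₁, hd₁⟩, ⟨f₁, hf₁⟩⟩
    let j₂ : J := ⟨⟨(⟨U₂, hU₂⟩, ⟨U₂', hU₂'⟩), hle₂⟩, ⟨d₂, hd₂⟩, ⟨f₂, hf₂⟩⟩
    let dc := domChart u p' chart' _ hV _ hV' hle₃ h0 (g₁ * g₂) hg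
    have hf₁' : dc = (c₁ ≫ a₁) ≫ c j₁ := by
      rw [← cancel_mono (RelProj.domQ u p' chart').ι, domChart_ι, Category.assoc]
      exact (hc₁.trans (congrArg (c₁ ≫ ·) ha₁)).trans ((Category.assoc _ _ _).symm.trans
        (congrArg ((c₁ ≫ a₁) ≫ ·) (domChart_ι u U₁ hU₁ U₁' hU₁' hle₁ hd₁ f₁ hf₁).symm))
    have hf₂' : dc = (c₂ ≫ a₂) ≫ c j₂ := by
      rw [← cancel_mono (RelProj.domQ u p' chart').ι, domChart_ι, Category.assoc]
      exact (hc₂.trans (congrArg (c₂ ≫ ·) ha₂)).trans ((Category.assoc _ _ _).symm.trans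
        (congrArg ((c₂ ≫ a₂) ≫ ·) (domChart_ι u U₂ hU₂ U₂' hU₂' hle₂ hd₂ f₂ hf₂).symm))
    have key : ∀ (j : J) (σ : _ ⟶ src j) (hσ : dc = σ ≫ c j),
        tgt u p chart _ hV _ hV' hle₃ h0 (g₁ * g₂) hg = σ ≫ T j →
        ∃ (hi : dc.opensRange ≤ O j), Scheme.homOfLE _ hi ≫ ((haveI := hc j; (c j).isoOpensRange.inv) ≫ T j) =
          dc.isoOpensRange.inv ≫ tgt u p chart _ hV _ hV' hle₃ h0 (g₁ * g₂) hg := by
      intro j σ hσ hT
      haveI := hc j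
      have hi : dc.opensRange ≤ O j := by
        rintro _ ⟨z, rfl⟩
        exact ⟨σ z, by rw [hσ]; rfl⟩
      refine ⟨hi, ?_⟩
      have E : dc.isoOpensRange.hom ≫ Scheme.homOfLE _ hi ≫ (c j).isoOpensRange.inv = σ := by
        rw [← cancel_mono (c j)]
        simp only [Category.assoc]
        rw [Scheme.Hom.isoOpensRange_inv_comp, Scheme.homOfLE_ι, Scheme.Hom.isoOpensRange_hom_ι, ← hσ]
      refine (cancel_epi dc.isoOpensRange.hom).1 ?_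
      refine Eq.trans ?_ ((congrArg (· ≫ T j) E).trans (hT.symm.trans (Iso.hom_inv_id_assoc _ _).symm))
      simp only [Category.assoc]
    obtain ⟨hi, k₁⟩ := key j₁ _ hf₁' (he₁.trans ((congrArg (c₁ ≫ ·) hb₁).trans (Category.assoc _ _ _).symm))
    obtain ⟨hj, k₂⟩ := key j₂ _ hf₂' (he₂.trans ((congrArg (c₂ ≫ ·) hb₂).trans (Category.assoc _ _ _).symm))
    exact ⟨dc.opensRange, hx₃, hi, hj, k₁.trans k₂.symm⟩)
  have hspec : ∀ (w : ((RelProj.domQ u p' chart' : P'.Opens) : Scheme.{u}) ⟶ P) (j : J),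
      (O j).ι ≫ w = (haveI := hc j; (c j).isoOpensRange.inv ≫ T j) ↔ c j ≫ w = T j := by
    intro w j
    haveI := hc j
    rw [← cancel_epi (c j).isoOpensRange.hom]
    simp only [O, Scheme.Hom.isoOpensRange_hom_ι_assoc, Iso.hom_inv_id_assoc]
  refine ⟨v, fun U hU U' hU' hle d hd f hf hW =>
    (hspec v ⟨⟨(⟨U, hU⟩, ⟨U', hU'⟩), hle⟩, ⟨d, hd⟩, ⟨f, hf⟩⟩).1 (hv _), fun w hw => hvu w fun j => ?_⟩
  refine (hspec w j).2 ?_
  exact hw _ j.1.1.1.2 _ j.1.1.2.2 j.1.2 _ j.2.1.2 j.2.2.1 j.2.2.2 _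

include hP hP' in
theorem projQMapOn_comp (v : ((RelProj.domQ u p' chart' : P'.Opens) : Scheme.{u}) ⟶ P)
    (hv : RelProj.IsProjQMapOn u p chart p' chart' (RelProj.domQ u p' chart') v) :
    v ≫ p = (RelProj.domQ u p' chart').ι ≫ p' ≫ g := by
  refine Scheme.hom_ext_of_forall _ _ fun x => ?_
  obtain ⟨U, hU, U', hU', hle, d, hd, f, hf, hx⟩ := domChart_cover u x
  let dc := domChart u p' chart' U hU U' hU' hle hd f hf
  refine ⟨dc.opensRange, hx, ?_⟩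
  rw [← cancel_epi dc.isoOpensRange.hom, Scheme.Hom.isoOpensRange_hom_ι_assoc,
    Scheme.Hom.isoOpensRange_hom_ι_assoc]
  have h1 : dc ≫ v = tgt u p chart U hU U' hU' hle hd f hf := hv U hU U' hU' hle d hd f hf _
  rw [reassoc_of% h1, reassoc_of% (domChart_ι u U hU U' hU' hle hd f hf), emb_comp hP, RelProj.awayEmb,
    Category.assoc, reassoc_of% (emb_comp hP' U' hU'), ← IsAffineOpen.SpecMap_appLE_fromSpec g hU hU' hle,
    Proj.awayι_toSpecZero_assoc, Proj.awayι_toSpecZero_assoc, ← Spec.map_comp_assoc, ← Spec.map_comp_assoc,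
    ← Spec.map_comp_assoc, ← Spec.map_comp_assoc]
  congr 2
  ext r
  obtain ⟨k, a, ha, he⟩ : ∃ (k : ℕ) (a : 𝒮.presheaf.obj (op U)) (ha : a ∈ 𝒮.deg U hU (k • d)),
      fromZeroRingHom (𝒮.deg U hU) (Submonoid.powers f) ((𝒮.strZero U hU).hom r) =
        Away.mk (𝒮.deg U hU) hf k a ha ∧ k = 0 ∧ a = (𝒮.str.app (op U)).hom r := by
    refine ⟨0, (𝒮.str.app (op U)).hom r, by rw [zero_smul]; exact 𝒮.str_mem U hU r, ?_, rfl, rfl⟩
    refine val_injective _ ?_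
    rw [Away.val_mk]
    show Localization.mk _ _ = _
    congr 1
    exact Subtype.ext (pow_zero f).symm
  obtain ⟨he, rfl, rfl⟩ := he
  show (Away.map _ f (fromZeroRingHom (𝒮.deg U hU) (Submonoid.powers f) ((𝒮.strZero U hU).hom r))).val = _
  rw [he, Away.map_mk, Away.val_mk]
  show Localization.mk _ _ = Localization.mk ((𝒮'.str.app (op U')).hom ((g.appLE U U' hle).hom r)) _
  congr 1
  · show (𝒮.str.app (op U) ≫ u.appLE U U' hle).hom r = _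
    rw [RelSpec.QHom.str_appLE]
    rfl
  · exact Subtype.ext (pow_zero _)

end Groth.Agent.EGA2Misc
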