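import Mathlib
import Groth.Prelude.Def_RelProj4
import Groth.Agent.EGA2Misc.ProjTN
import Groth.Agent.EGA2Misc.ProjQMap

/-!
# Preimages of standard opens under `Proj(u)`, local properties, composition
-/

noncomputable section

universe u

open CategoryTheory CategoryTheory.Limits AlgebraicGeometry Opposite HomogeneousLocalization
open scoped HomogeneousIdeal

namespace Groth.Agent.EGA2Misc

section Ring

variable {A B : Type u} [CommRing A] [CommRing B] {𝒜 : ℕ → AddSubgroup A} [GradedRing 𝒜]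
  {ℬ : ℕ → AddSubgroup B} [GradedRing ℬ]

theorem exists_away_cast {d : ℕ} (hd : 0 < d) {y y' : B} (hy : y ∈ ℬ d) (hy' : y' ∈ ℬ d) (e : y' = y) :
    ∃ ω : Away ℬ y' →+* Away ℬ y,
      Proj.awayι ℬ y hy hd = Spec.map (CommRingCat.ofHom ω) ≫ Proj.awayι ℬ y' hy' hd ∧
      ∀ (n : ℕ) (a : B) (ha : a ∈ ℬ (n • d)), ω (Away.mk ℬ hy' n a ha) = Away.mk ℬ hy n a ha := by
  subst e
  refine ⟨RingHom.id _, ?_, fun n a ha => rfl⟩
  rw [CommRingCat.ofHom_id, Spec.map_id, Category.id_comp]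

theorem away_map_injective (ψ : 𝒜 →+*ᵍ ℬ) {n d : ℕ} (hd : 0 < d) {f : A} (hf : f ∈ 𝒜 d)
    (hinj : ∀ k, n ≤ k → ∀ x ∈ 𝒜 k, ψ x = 0 → x = 0) : Function.Injective (Away.map ψ f) := by
  rw [injective_iff_map_eq_zero]
  intro q hq
  obtain ⟨k, a, ha, rfl⟩ := Away.mk_surjective 𝒜 hf q
  rw [Away.map_mk] at hq
  have hq' := congrArg HomogeneousLocalization.val hq
  rw [Away.val_mk, HomogeneousLocalization.val_zero, Localization.mk_eq_mk', IsLocalization.mk'_eq_zero_iff] at hq'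
  obtain ⟨⟨_, m, rfl⟩, hm⟩ := hq'
  have hz : a * f ^ (m + n) = 0 := by
    refine hinj ((k + (m + n)) • d)
      ((le_trans (Nat.le_add_left n m) (Nat.le_add_left _ k)).trans (Nat.le_mul_of_pos_right _ hd)) _
      (by rw [add_smul]; exact SetLike.mul_mem_graded ha (SetLike.pow_mem_graded (m + n) hf)) ?_
    · have hm' : ψ f ^ m * ψ a = 0 := hm
      rw [map_mul, map_pow, pow_add, ← mul_assoc, mul_comm (ψ a), hm', zero_mul]
  apply HomogeneousLocalization.val_injective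
  rw [Away.val_mk, HomogeneousLocalization.val_zero, Localization.mk_eq_mk', IsLocalization.mk'_eq_zero_iff]
  exact ⟨⟨f ^ (m + n), m + n, rfl⟩, by show f ^ (m + n) * a = 0; rw [mul_comm]; exact hz⟩

theorem away_map_surjective (ψ : 𝒜 →+*ᵍ ℬ) {n d : ℕ} (hd : 0 < d) {f : A} (hf : f ∈ 𝒜 d)
    (hsurj : ∀ k, n ≤ k → ∀ y ∈ ℬ k, ∃ x ∈ 𝒜 k, ψ x = y) : Function.Surjective (Away.map ψ f) := by
  intro q
  obtain ⟨k, b, hb, rfl⟩ := Away.mk_surjective ℬ (ψ.map_mem hf) q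
  have hmem : b * ψ f ^ n ∈ ℬ ((k + n) • d) := by
    rw [add_smul]; exact SetLike.mul_mem_graded hb (SetLike.pow_mem_graded n (ψ.map_mem hf))
  obtain ⟨a, ha, hae⟩ := hsurj _ (le_trans (Nat.le_add_left _ _) (Nat.le_mul_of_pos_right _ hd)) _ hmem
  refine ⟨Away.mk 𝒜 hf (k + n) a ha, ?_⟩
  refine val_injective _ ?_
  show (Away.map ψ f _).val = _
  rw [Away.map_mk, Away.val_mk, Away.val_mk, Localization.mk_eq_mk_iff, Localization.r_iff_exists]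
  refine ⟨1, ?_⟩
  simp only [hae, OneMemClass.coe_one, one_mul, pow_add]
  exact (by intro t; ring : ∀ t : B, t ^ k * (b * t ^ n) = t ^ k * t ^ n * b) (ψ f)

end Ring

variable {Y Y' P P' : Scheme.{u}} {g : Y' ⟶ Y} {𝒮 : RelProj.QCGrAlg Y} {𝒮' : RelProj.QCGrAlg Y'}
  (u : RelProj.QGrHom g 𝒮 𝒮') {p : P ⟶ Y}
  {chart : ∀ (U : Y.Opens) (hU : IsAffineOpen U), (((p ⁻¹ᵁ U : P.Opens) : Scheme.{u}) ≅ Proj (𝒮.deg U hU))}
  {p' : P' ⟶ Y'}
  {chart' : ∀ (U : Y'.Opens) (hU : IsAffineOpen U), (((p' ⁻¹ᵁ U : P'.Opens) : Scheme.{u}) ≅ Proj (𝒮'.deg U hU))}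

/-- the range of a chart immersion lies over the base open -/
theorem mem_of_mem_emb {X Q : Scheme.{u}} {𝒯 : RelProj.QCGrAlg X} {π : Q ⟶ X}
    {c : ∀ (U : X.Opens) (hU : IsAffineOpen U), (((π ⁻¹ᵁ U : Q.Opens) : Scheme.{u}) ≅ Proj (𝒯.deg U hU))}
    {U : X.Opens} {hU : IsAffineOpen U} {W : (Proj (𝒯.deg U hU)).Opens} {y : Q}
    (hy : y ∈ RelProj.emb π c U hU ''ᵁ W) : π y ∈ U := by
  obtain ⟨w, -, rfl⟩ := hy
  exact (SetLike.ext_iff.1 (opensRange_emb π c U hU) _).1 ⟨w, rfl⟩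

theorem mem_emb_res_iff {X Q : Scheme.{u}} {𝒯 : RelProj.QCGrAlg X} {π : Q ⟶ X}
    {c : ∀ (U : X.Opens) (hU : IsAffineOpen U), (((π ⁻¹ᵁ U : Q.Opens) : Scheme.{u}) ≅ Proj (𝒯.deg U hU))}
    (hQ : RelProj.IsRelProj 𝒯 π c) (U : X.Opens) (hU : IsAffineOpen U) (V : X.Opens)
    (hV : IsAffineOpen V) (r : Γ(X, U)) (eV : V = X.basicOpen r) (hVU : V ≤ U)
    (y : Q) (hy : π y ∈ V) (b : 𝒯.presheaf.obj (op U)) :
    y ∈ RelProj.emb π c V hV ''ᵁ Proj.basicOpen (𝒯.deg V hV) (𝒯.res hU hV hVU b) ↔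
      y ∈ RelProj.emb π c U hU ''ᵁ Proj.basicOpen (𝒯.deg U hU) b := by
  refine ⟨?_, preimage_emb_basicOpen hQ U hU V hV r eV hVU y hy b⟩
  subst eV
  rintro ⟨w, hw, rfl⟩
  refine ⟨Proj.map (𝒯.res hU hV hVU) (𝒯.irrelevant_le_map U hU r) w, hw, ?_⟩
  exact (congrArg (fun χ => χ w) (emb_res hQ U hU r)).symm

theorem mem_domQ_of_mem_emb (U : Y.Opens) (hU : IsAffineOpen U) (U' : Y'.Opens) (hU' : IsAffineOpen U')
    (hle : U' ≤ g ⁻¹ᵁ U) {d : ℕ} (hd : 0 < d) (f : 𝒮.presheaf.obj (op U)) (hf : f ∈ 𝒮.deg U hU d) (y : P')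
    (hy : y ∈ RelProj.emb p' chart' U' hU' ''ᵁ Proj.basicOpen (𝒮'.deg U' hU') (u.gradedAt U hU U' hU' hle f)) :
    y ∈ RelProj.domQ u p' chart' := by
  obtain ⟨w, hw, rfl⟩ := hy
  obtain ⟨z, rfl⟩ := (SetLike.ext_iff.1 (Proj.opensRange_awayι (𝒮'.deg U' hU') _
    ((u.gradedAt U hU U' hU' hle).map_mem hf) hd) w).2 hw
  have := RelProj.range_awayEmb_subset_domQ u p' chart' U hU U' hU' hle hd f hf ⟨z, rfl⟩
  rw [Scheme.Opens.range_ι] at this
  exact this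

variable (p chart) in
theorem exists_mem_emb (y : P) :
    ∃ (U : Y.Opens) (hU : IsAffineOpen U) (d : ℕ) (_ : 0 < d) (f : 𝒮.presheaf.obj (op U)) (_ : f ∈ 𝒮.deg U hU d),
      y ∈ RelProj.emb p chart U hU ''ᵁ Proj.basicOpen (𝒮.deg U hU) f := by
  obtain ⟨_, ⟨U, hU, rfl⟩, hyU, -⟩ :=
    Y.isBasis_affineOpens.exists_subset_of_mem_open (Set.mem_univ (p y)) isOpen_univ
  obtain ⟨w, hw⟩ : y ∈ (RelProj.emb p chart U hU).opensRange := by rw [opensRange_emb]; exact hyU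
  let c := (Proj.affineOpenCover (𝒮.deg U hU)).idx w
  obtain ⟨z, hz⟩ := (Proj.affineOpenCover (𝒮.deg U hU)).covers w
  refine ⟨U, hU, c.1, c.1.2, c.2.1, c.2.2, w, ?_, hw⟩
  rw [← Proj.opensRange_awayι (𝒮.deg U hU) c.2.1 c.2.2 c.1.2]
  exact ⟨z, hz⟩

variable (hP : RelProj.IsRelProj 𝒮 p chart) (hP' : RelProj.IsRelProj 𝒮' p' chart')
  {v : ((RelProj.domQ u p' chart' : P'.Opens) : Scheme.{u}) ⟶ P}
  (hv : RelProj.IsProjQMapOn u p chart p' chart' (RelProj.domQ u p' chart') v)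

include hP hP' hv in
/-- The preimage of `D₊(f)` under `Proj(u)`. -/
theorem mem_emb_iff (U : Y.Opens) (hU : IsAffineOpen U) {d : ℕ} (hd : 0 < d) (f : 𝒮.presheaf.obj (op U))
    (hf : f ∈ 𝒮.deg U hU d) (x : (RelProj.domQ u p' chart' : P'.Opens)) :
    v x ∈ RelProj.emb p chart U hU ''ᵁ Proj.basicOpen (𝒮.deg U hU) f ↔
      ∃ (U' : Y'.Opens) (hU' : IsAffineOpen U') (hle : U' ≤ g ⁻¹ᵁ U),
        x.1 ∈ RelProj.emb p' chart' U' hU' ''ᵁ
          Proj.basicOpen (𝒮'.deg U' hU') (u.gradedAt U hU U' hU' hle f) := by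
  constructor
  · intro hx
    have hxU : g (p' x.1) ∈ U := by
      have h1 := mem_of_mem_emb hx
      have h2 : p (v x) = g (p' x.1) := by
        rw [← Scheme.Hom.comp_apply, projQMapOn_comp u hP hP' v hv]
        rfl
      rwa [h2] at h1
    obtain ⟨U₀, hU₀, U₀', hU₀', hle₀, e, he, a, ha, hxa⟩ := domChart_cover u x
    have hma := (mem_domChart u x U₀ hU₀ U₀' hU₀' hle₀ he a ha).1 hxa
    have hx₀ : p' x.1 ∈ U₀' := mem_of_mem_emb hma
    obtain ⟨r, r₀, hr, hVx⟩ := exists_basicOpen_le_affine_inter hU hU₀ (g (p' x.1)) ⟨hxU, hle₀ hx₀⟩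
    obtain ⟨s, hs, hsx⟩ := hU₀'.exists_basicOpen_le (V := g ⁻¹ᵁ Y.basicOpen r) ⟨p' x.1, hVx⟩ hx₀
    have hV := hU.basicOpen r
    have hV' := hU₀'.basicOpen s
    have hVU : Y.basicOpen r ≤ U := Y.basicOpen_le r
    have hVU₀ : Y.basicOpen r ≤ U₀ := hr ▸ Y.basicOpen_le r₀
    let aV := 𝒮.res hU₀ hV hVU₀ a
    have haV : aV ∈ 𝒮.deg _ hV e := (𝒮.res hU₀ hV hVU₀).map_mem ha
    let fV := 𝒮.res hU hV hVU f
    have hfV : fV ∈ 𝒮.deg _ hV d := (𝒮.res hU hV hVU).map_mem hf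
    let ψ := u.gradedAt (Y.basicOpen r) hV (Y'.basicOpen s) hV' hs
    have hxV : x.1 ∈ RelProj.emb p' chart' _ hV' ''ᵁ Proj.basicOpen (𝒮'.deg _ hV') (ψ aV) := by
      have := preimage_emb_basicOpen hP' U₀' hU₀' _ hV' s rfl (Y'.basicOpen_le s) x.1 hsx _ hma
      convert this using 3
      show (𝒮.presheaf.map (homOfLE hVU₀).op ≫ u.appLE _ _ hs).hom a =
        (u.appLE U₀ U₀' hle₀ ≫ 𝒮'.presheaf.map (homOfLE (Y'.basicOpen_le s)).op).hom a
      rw [RelSpec.QHom.map_appLE, RelSpec.QHom.appLE_map]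
    obtain ⟨z, hz⟩ := (mem_domChart u x _ hV _ hV' hs he aV haV).2 hxV
    have hvx : v x = RelProj.emb p chart _ hV (Proj.awayι (𝒮.deg _ hV) aV haV he
        (Spec.map (CommRingCat.ofHom (Away.map ψ aV)) z)) := by
      rw [← hz, ← Scheme.Hom.comp_apply]
      have h1 : domChart u p' chart' _ hV _ hV' hs he aV haV ≫ v = tgt u p chart _ hV _ hV' hs he aV haV :=
        hv _ hV _ hV' hs e he aV haV _
      rw [h1]
      rfl
    have hxf := (mem_emb_res_iff hP U hU _ hV r rfl hVU (v x) (by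
      rw [← Scheme.Hom.comp_apply, projQMapOn_comp u hP hP' v hv]; exact hVx) f).2 hx
    obtain ⟨w, hw, hwx⟩ := hxf
    have hw' : w = _ := (RelProj.emb p chart _ hV).isOpenEmbedding.injective (hwx.trans hvx)
    subst hw'
    have h1 := (SetLike.ext_iff.1 (Proj.awayι_preimage_basicOpen (𝒮.deg _ hV) haV he hfV hd) _).1 hw
    have h2 : Proj.awayι (𝒮'.deg _ hV') (ψ aV) (ψ.map_mem haV) he z ∈ Proj.basicOpen (𝒮'.deg _ hV') (ψ fV) := by
      refine (SetLike.ext_iff.1 (Proj.awayι_preimage_basicOpen (𝒮'.deg _ hV') (ψ.map_mem haV) he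
        (ψ.map_mem hfV) hd) z).2 ?_
      have h1' : Away.map ψ aV (Away.isLocalizationElem haV hfV) ∉ z.asIdeal := h1
      rw [Away.isLocalizationElem, Away.map_mk] at h1'
      simpa [Away.isLocalizationElem, map_pow] using! h1'
    refine ⟨Y'.basicOpen s, hV', hs.trans (g.preimage_mono hVU), Proj.awayι (𝒮'.deg _ hV') (ψ aV) (ψ.map_mem haV) he z, ?_, ?_⟩
    · have e1 : u.gradedAt U hU (Y'.basicOpen s) hV' (hs.trans (g.preimage_mono hVU)) f = ψ fV := by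
        show _ = (𝒮.presheaf.map (homOfLE hVU).op ≫ u.appLE _ _ hs).hom f
        rw [RelSpec.QHom.map_appLE]
        rfl
      rw [e1]
      exact h2
    · have h3 := congrArg (RelProj.domQ u p' chart').ι hz
      rw [← Scheme.Hom.comp_apply, domChart_ι] at h3
      exact h3
  · rintro ⟨U', hU', hle, hx⟩
    obtain ⟨z, rfl⟩ := (mem_domChart u x U hU U' hU' hle hd f hf).2 hx
    rw [← Scheme.Hom.comp_apply]
    have h1 : domChart u p' chart' U hU U' hU' hle hd f hf ≫ v = tgt u p chart U hU U' hU' hle hd f hf :=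
      hv U hU U' hU' hle d hd f hf _
    rw [h1]
    refine ⟨Proj.awayι (𝒮.deg U hU) f hf hd
      (Spec.map (CommRingCat.ofHom (Away.map (u.gradedAt U hU U' hU' hle) f)) z), ?_, rfl⟩
    exact (SetLike.ext_iff.1 (Proj.opensRange_awayι (𝒮.deg U hU) f hf hd) _).1 ⟨_, rfl⟩

end Groth.Agent.EGA2Misc

namespace Groth.Agent.EGA2Misc

section SameBase

variable {Y PA PB : Scheme.{u}} {𝒜 ℬ : RelProj.QCGrAlg Y}
  {φ : 𝒜.toQCAlg ⟶ ℬ.toQCAlg} {hφ : RelProj.IsGradedHom φ}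
  {pA : PA ⟶ Y} {chartA : ∀ (U : Y.Opens) (hU : IsAffineOpen U), (((pA ⁻¹ᵁ U : PA.Opens) : Scheme.{u}) ≅ Proj (𝒜.deg U hU))}
  {pB : PB ⟶ Y} {chartB : ∀ (U : Y.Opens) (hU : IsAffineOpen U), (((pB ⁻¹ᵁ U : PB.Opens) : Scheme.{u}) ≅ Proj (ℬ.deg U hU))}
  (hA : RelProj.IsRelProj 𝒜 pA chartA) (hB : RelProj.IsRelProj ℬ pB chartB)
  {Φ : ((RelProj.domQ (RelProj.QGrHom.ofHom φ hφ) pB chartB : PB.Opens) : Scheme.{u}) ⟶ PA}
  (hΦ : RelProj.IsProjQMapOn (RelProj.QGrHom.ofHom φ hφ) pA chartA pB chartB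
    (RelProj.domQ (RelProj.QGrHom.ofHom φ hφ) pB chartB) Φ)

/-- The standard chart over a pair `(U, U)`. -/
abbrev diagChart (φ : 𝒜.toQCAlg ⟶ ℬ.toQCAlg) (hφ : RelProj.IsGradedHom φ) (pB : PB ⟶ Y)
    (chartB : ∀ (U : Y.Opens) (hU : IsAffineOpen U), (((pB ⁻¹ᵁ U : PB.Opens) : Scheme.{u}) ≅ Proj (ℬ.deg U hU)))
    (U : Y.Opens) (hU : IsAffineOpen U) {d : ℕ} (hd : 0 < d) (f : 𝒜.presheaf.obj (op U))
    (hf : f ∈ 𝒜.deg U hU d) :=
  domChart (RelProj.QGrHom.ofHom φ hφ) pB chartB U hU U hU le_rfl hd f hf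

include hA hB hΦ in
theorem preimage_emb_eq (U : Y.Opens) (hU : IsAffineOpen U) {d : ℕ} (hd : 0 < d) (f : 𝒜.presheaf.obj (op U))
    (hf : f ∈ 𝒜.deg U hU d) :
    Φ ⁻¹ᵁ (RelProj.emb pA chartA U hU ''ᵁ Proj.basicOpen (𝒜.deg U hU) f) =
      (diagChart φ hφ pB chartB U hU hd f hf).opensRange := by
  refine SetLike.ext fun x => ?_
  refine (mem_emb_iff _ hA hB hΦ U hU hd f hf x).trans ?_
  refine Iff.trans ?_ (mem_domChart (RelProj.QGrHom.ofHom φ hφ) x U hU U hU le_rfl hd f hf).symm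
  refine ⟨?_, fun h => ⟨U, hU, le_rfl, h⟩⟩
  rintro ⟨U', hU', hle, hx⟩
  have hxU' : pB x.1 ∈ U' := mem_of_mem_emb hx
  have hle' : U' ≤ U := hle
  obtain ⟨r, r', hr, hVx⟩ := exists_basicOpen_le_affine_inter hU hU' (pB x.1) ⟨hle' hxU', hxU'⟩
  have hV := hU.basicOpen r
  have hVU : Y.basicOpen r ≤ U := Y.basicOpen_le r
  have hVU' : Y.basicOpen r ≤ U' := hr ▸ Y.basicOpen_le r'
  refine (mem_emb_res_iff hB U hU _ hV r rfl hVU x.1 hVx _).1 ?_
  have h1 := (mem_emb_res_iff hB U' hU' _ hV r' hr hVU' x.1 hVx _).2 hx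
  convert h1 using 3
  show ((RelProj.QGrHom.ofHom φ hφ).appLE U U le_rfl ≫ ℬ.presheaf.map (homOfLE hVU).op).hom f =
    ((RelProj.QGrHom.ofHom φ hφ).appLE U U' hle ≫ ℬ.presheaf.map (homOfLE hVU').op).hom f
  rw [RelSpec.QHom.appLE_map, RelSpec.QHom.appLE_map]

include hA hB hΦ in
theorem domQ_inf_preimage (U : Y.Opens) (hU : IsAffineOpen U) :
    RelProj.domQ (RelProj.QGrHom.ofHom φ hφ) pB chartB ⊓ pB ⁻¹ᵁ U =
      (RelProj.emb pB chartB U hU) ''ᵁ RelCone.domOpen (RelProj.gradedHomAt φ hφ U hU) := by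
  refine le_antisymm ?_ ?_
  · rintro x ⟨hxd, hxU⟩
    have hAU : pA (Φ ⟨x, hxd⟩) ∈ U := by
      rw [← Scheme.Hom.comp_apply, projQMapOn_comp _ hA hB Φ hΦ]
      exact hxU
    obtain ⟨w, hw⟩ : Φ ⟨x, hxd⟩ ∈ (RelProj.emb pA chartA U hU).opensRange := by rw [opensRange_emb]; exact hAU
    let c := (Proj.affineOpenCover (𝒜.deg U hU)).idx w
    obtain ⟨z, hz⟩ := (Proj.affineOpenCover (𝒜.deg U hU)).covers w
    have hw' : Φ ⟨x, hxd⟩ ∈ RelProj.emb pA chartA U hU ''ᵁ Proj.basicOpen (𝒜.deg U hU) c.2.1 := by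
      refine ⟨w, ?_, hw⟩
      rw [← Proj.opensRange_awayι (𝒜.deg U hU) c.2.1 c.2.2 c.1.2]
      exact ⟨z, hz⟩
    have h1 := (SetLike.ext_iff.1 (preimage_emb_eq hA hB hΦ U hU c.1.2 c.2.1 c.2.2) ⟨x, hxd⟩).1 hw'
    obtain ⟨y, hy, hyx⟩ := (mem_domChart (RelProj.QGrHom.ofHom φ hφ) _ U hU U hU le_rfl c.1.2 c.2.1 c.2.2).1 h1
    refine ⟨y, (RelCone.mem_domOpen _ y).2 ⟨c.2.1, HomogeneousIdeal.mem_irrelevant_of_mem _ c.1.2 c.2.2, ?_⟩, hyx⟩
    have hy' := (ProjectiveSpectrum.mem_basicOpen _ _ _).mp hy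
    rw [gradedAt_ofHom_apply] at hy'
    exact hy'
  · rintro _ ⟨y, hy, rfl⟩
    refine ⟨?_, (SetLike.ext_iff.1 (opensRange_emb pB chartB U hU) _).1 ⟨y, rfl⟩⟩
    refine TopologicalSpace.Opens.mem_iSup.2 ⟨⟨(⟨U, hU⟩, ⟨U, hU⟩), le_rfl⟩, y, ?_, rfl⟩
    obtain ⟨a, ha, hay⟩ := (RelCone.mem_domOpen _ y).1 hy
    refine (RelCone.mem_domOpen _ y).2 ⟨a, ha, ?_⟩
    rw [gradedAt_ofHom_apply]
    exact hay

include hA hB hΦ in
/-- A property local on the target holds for `Proj(φ)` as soon as it holds on the standard charts. -/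
theorem projQMap_prop (Q : MorphismProperty Scheme.{u}) [IsZariskiLocalAtTarget Q]
    (h : ∀ (U : Y.Opens) (hU : IsAffineOpen U) (d : ℕ) (_ : 0 < d) (f : 𝒜.presheaf.obj (op U))
      (_ : f ∈ 𝒜.deg U hU d),
      Q (Spec.map (CommRingCat.ofHom (Away.map ((RelProj.QGrHom.ofHom φ hφ).gradedAt U hU U hU le_rfl) f)))) :
    Q Φ := by
  let J := Σ (U : Y.affineOpens) (d : {d : ℕ // 0 < d}), 𝒜.deg U.1 U.2 d.1
  let W : J → PA.Opens := fun j =>
    RelProj.emb pA chartA j.1.1 j.1.2 ''ᵁ Proj.basicOpen (𝒜.deg j.1.1 j.1.2) j.2.2.1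
  have hcov : ⨆ j, W j = ⊤ := by
    rw [eq_top_iff]
    intro x _
    obtain ⟨U, hU, d, hd, f, hf, hx⟩ := exists_mem_emb pA chartA x
    exact TopologicalSpace.Opens.mem_iSup.2 ⟨⟨⟨U, hU⟩, ⟨d, hd⟩, ⟨f, hf⟩⟩, hx⟩
  refine IsZariskiLocalAtTarget.of_iSup_eq_top (P := Q) W hcov fun j => ?_
  obtain ⟨⟨U, hU⟩, ⟨d, hd⟩, ⟨f, hf⟩⟩ := j
  let χ := (RelProj.QGrHom.ofHom φ hφ).gradedAt U hU U hU le_rfl
  let dc := diagChart φ hφ pB chartB U hU hd f hf
  let W₀ := RelProj.emb pA chartA U hU ''ᵁ Proj.basicOpen (𝒜.deg U hU) f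
  let e := dc.isoOpensRange ≪≫ Scheme.isoOfEq _ (preimage_emb_eq hA hB hΦ U hU hd f hf).symm
  refine (MorphismProperty.cancel_left_of_respectsIso Q e.hom _).1 ?_
  let a' := IsOpenImmersion.lift W₀.ι (Proj.awayι (𝒜.deg U hU) f hf hd ≫ RelProj.emb pA chartA U hU) (by
    rw [Scheme.Opens.range_ι]
    rintro _ ⟨y, rfl⟩
    refine ⟨_, ?_, rfl⟩
    rw [← Proj.opensRange_awayι (𝒜.deg U hU) f hf hd]
    exact ⟨y, rfl⟩)
  have hrange' : Set.range W₀.ι.base ⊆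
      Set.range (Proj.awayι (𝒜.deg U hU) f hf hd ≫ RelProj.emb pA chartA U hU).base := by
    rw [Scheme.Opens.range_ι]
    rintro _ ⟨w, hw, rfl⟩
    rw [← Proj.opensRange_awayι (𝒜.deg U hU) f hf hd] at hw
    obtain ⟨y, rfl⟩ := hw
    exact ⟨y, rfl⟩
  haveI : IsIso a' := by
    refine ⟨IsOpenImmersion.lift _ W₀.ι hrange', ?_, ?_⟩
    · rw [← cancel_mono (Proj.awayι (𝒜.deg U hU) f hf hd ≫ RelProj.emb pA chartA U hU), Category.assoc,
        IsOpenImmersion.lift_fac, IsOpenImmersion.lift_fac, Category.id_comp]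
    · rw [← cancel_mono W₀.ι, Category.assoc, IsOpenImmersion.lift_fac, IsOpenImmersion.lift_fac,
        Category.id_comp]
  have haE : dc ≫ Φ = Spec.map (CommRingCat.ofHom (Away.map χ f)) ≫
      Proj.awayι (𝒜.deg U hU) f hf hd ≫ RelProj.emb pA chartA U hU := hΦ U hU U hU le_rfl d hd f hf _
  have h1 : e.hom ≫ Φ ∣_ W₀ = Spec.map (CommRingCat.ofHom (Away.map χ f)) ≫ a' := by
    rw [← cancel_mono W₀.ι, Category.assoc, morphismRestrict_ι, Category.assoc, IsOpenImmersion.lift_fac]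
    refine Eq.trans ?_ haE
    simp only [e, Iso.trans_hom, Category.assoc]
    exact (congrArg (dc.isoOpensRange.hom ≫ ·) (Scheme.isoOfEq_hom_ι_assoc _ _ _)).trans
      (Scheme.Hom.isoOpensRange_hom_ι_assoc _ _)
  rw [h1]
  exact (MorphismProperty.cancel_right_of_respectsIso Q _ a').2 (h U hU d hd f hf)

include hA hB hΦ in
theorem isDominant_projQMapOn
    (hTN : ∃ n : ℕ, ∀ k, n ≤ k → ∀ (U : Y.Opens) (hU : IsAffineOpen U), ∀ x ∈ 𝒜.deg U hU k,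
      (φ.hom.app (op U)).hom x = 0 → x = 0) : IsDominant Φ := by
  obtain ⟨n, hn⟩ := hTN
  refine projQMap_prop hA hB hΦ @IsDominant fun U hU d hd f hf => ?_
  refine ⟨(PrimeSpectrum.denseRange_comap_iff_ker_le_nilRadical _).2 ?_⟩
  have hinj := away_map_injective ((RelProj.QGrHom.ofHom φ hφ).gradedAt U hU U hU le_rfl) (n := n) hd hf
    fun k hk x hx h0 => hn k hk U hU x hx (by rwa [gradedAt_ofHom_apply] at h0)
  exact ((RingHom.injective_iff_ker_eq_bot _).1 hinj).le.trans bot_le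

include hA hB hΦ in
theorem isAffineHom_projQMapOn : IsAffineHom Φ :=
  projQMap_prop hA hB hΦ @IsAffineHom fun _ _ _ _ _ _ => inferInstance

omit hΦ in
include hA hB in
theorem isIso_projQMap {h : PB ⟶ PA} (hh : RelProj.IsProjQMap (RelProj.QGrHom.ofHom φ hφ) pA chartA pB chartB h)
    (hTN : ∃ n : ℕ, ∀ k, n ≤ k → ∀ (U : Y.Opens) (hU : IsAffineOpen U),
      (∀ x ∈ 𝒜.deg U hU k, (φ.hom.app (op U)).hom x = 0 → x = 0) ∧
        ∀ y ∈ ℬ.deg U hU k, ∃ x ∈ 𝒜.deg U hU k, (φ.hom.app (op U)).hom x = y) : IsIso h := by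
  obtain ⟨n, hn⟩ := hTN
  let D := RelProj.domQ (RelProj.QGrHom.ofHom φ hφ) pB chartB
  have hD : RelProj.IsProjQMapOn (RelProj.QGrHom.ofHom φ hφ) pA chartA pB chartB D (D.ι ≫ h) := by
    intro U hU U' hU' hle d hd f hf hW
    rw [IsOpenImmersion.lift_fac_assoc]
    exact hh.2 U hU U' hU' hle d hd f hf
  have h1 : IsIso (D.ι ≫ h) := by
    refine projQMap_prop hA hB hD (MorphismProperty.isomorphisms Scheme) fun U hU d hd f hf => ?_
    let χ := (RelProj.QGrHom.ofHom φ hφ).gradedAt U hU U hU le_rfl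
    have hbij : Function.Bijective (Away.map χ f) :=
      ⟨away_map_injective χ (n := n) hd hf fun k hk x hx h0 =>
          (hn k hk U hU).1 x hx ((gradedAt_ofHom_apply U hU x).symm.trans h0),
        away_map_surjective χ (n := n) hd hf fun k hk y hy => by
          obtain ⟨x, hx, hxy⟩ := (hn k hk U hU).2 y hy
          exact ⟨x, hx, (gradedAt_ofHom_apply U hU x).trans hxy⟩⟩
    haveI : IsIso (CommRingCat.ofHom (Away.map χ f)) :=
      (RingEquiv.ofBijective _ hbij).toCommRingCatIso.isIso_hom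
    show IsIso _
    infer_instance
  haveI : IsIso D.ι := by
    haveI := h1
    have hD' : D = ⊤ := hh.1
    rw [hD']
    exact inferInstanceAs (IsIso PB.topIso.hom)
  exact IsIso.of_isIso_comp_left D.ι h

end SameBase

section Comp

variable {Y Y' P P' PT : Scheme.{u}} {g : Y' ⟶ Y} {𝒮 : RelProj.QCGrAlg Y} {𝒮' : RelProj.QCGrAlg Y'}
  {u : RelProj.QGrHom g 𝒮 𝒮'} {p : P ⟶ Y}
  {chart : ∀ (U : Y.Opens) (hU : IsAffineOpen U), (((p ⁻¹ᵁ U : P.Opens) : Scheme.{u}) ≅ Proj (𝒮.deg U hU))}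
  {p' : P' ⟶ Y'}
  {chart' : ∀ (U : Y'.Opens) (hU : IsAffineOpen U), (((p' ⁻¹ᵁ U : P'.Opens) : Scheme.{u}) ≅ Proj (𝒮'.deg U hU))}
  {𝒯 : RelProj.QCGrAlg Y} {pT : PT ⟶ Y}
  {chartT : ∀ (U : Y.Opens) (hU : IsAffineOpen U), (((pT ⁻¹ᵁ U : PT.Opens) : Scheme.{u}) ≅ Proj (𝒯.deg U hU))}
  {v : 𝒯.toQCAlg ⟶ 𝒮.toQCAlg} {hv : RelProj.IsGradedHom v}
  {u' : RelProj.QGrHom g 𝒯 𝒮'} (hu' : ∀ U : Y.Opens, u'.app U = v.hom.app (op U) ≫ u.app U)
  (hP : RelProj.IsRelProj 𝒮 p chart) (hP' : RelProj.IsRelProj 𝒮' p' chart') (hT : RelProj.IsRelProj 𝒯 pT chartT)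
  {r : ((RelProj.domQ u p' chart' : P'.Opens) : Scheme.{u}) ⟶ P}
  (hr : RelProj.IsProjQMapOn u p chart p' chart' (RelProj.domQ u p' chart') r)
  {r' : ((RelProj.domQ u' p' chart' : P'.Opens) : Scheme.{u}) ⟶ PT}
  (hr' : RelProj.IsProjQMapOn u' pT chartT p' chart' (RelProj.domQ u' p' chart') r')

include hu' in
theorem gradedAt_comp (U : Y.Opens) (hU : IsAffineOpen U) (U' : Y'.Opens) (hU' : IsAffineOpen U')
    (hle : U' ≤ g ⁻¹ᵁ U) (b : 𝒯.presheaf.obj (op U)) :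
    u'.gradedAt U hU U' hU' hle b =
      u.gradedAt U hU U' hU' hle ((RelProj.QGrHom.ofHom v hv).gradedAt U hU U hU le_rfl b) := by
  rw [gradedAt_ofHom_apply]
  show (u'.app U ≫ 𝒮'.presheaf.map (homOfLE hle).op).hom b = _
  rw [hu']
  rfl

include hu' hP hP' hT hr hr' in
theorem exists_comp :
    ∃ (hle : RelProj.domQ u' p' chart' ≤ RelProj.domQ u p' chart')
      (r₁ : ((RelProj.domQ u' p' chart' : P'.Opens) : Scheme.{u}) ⟶
        ((RelProj.domQ (RelProj.QGrHom.ofHom v hv) p chart : P.Opens) : Scheme.{u}))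
      (ρ : ((RelProj.domQ (RelProj.QGrHom.ofHom v hv) p chart : P.Opens) : Scheme.{u}) ⟶ PT),
      RelProj.IsProjQMapOn (RelProj.QGrHom.ofHom v hv) pT chartT p chart
        (RelProj.domQ (RelProj.QGrHom.ofHom v hv) p chart) ρ ∧
      r₁ ≫ (RelProj.domQ (RelProj.QGrHom.ofHom v hv) p chart).ι = P'.homOfLE hle ≫ r ∧
      r' = r₁ ≫ ρ ∧
      ∀ x : (RelProj.domQ u p' chart' : P'.Opens),
        r x ∈ RelProj.domQ (RelProj.QGrHom.ofHom v hv) p chart → x.1 ∈ RelProj.domQ u' p' chart' := by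
  let vQ := RelProj.QGrHom.ofHom v hv
  let Gv := RelProj.domQ vQ p chart
  let G := RelProj.domQ u p' chart'
  let G' := RelProj.domQ u' p' chart'
  obtain ⟨ρ, hρ, -⟩ := existsUnique_projQMapOn vQ hT hP
  have hchart : ∀ x : P', x ∈ G' → ∃ (hx : x ∈ G), r ⟨x, hx⟩ ∈ Gv := by
    intro x hx
    obtain ⟨U, hU, U', hU', hle, d, hd, b, hb, hxb⟩ := domChart_cover u' ⟨x, hx⟩
    have hm := (mem_domChart u' ⟨x, hx⟩ U hU U' hU' hle hd b hb).1 hxb
    rw [gradedAt_comp hu' (hv := hv)] at hm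
    have ha := (vQ.gradedAt U hU U hU le_rfl).map_mem hb
    have hxG : x ∈ G := mem_domQ_of_mem_emb u U hU U' hU' hle hd _ ha x hm
    refine ⟨hxG, mem_domQ_of_mem_emb vQ U hU U hU le_rfl hd b hb _ ?_⟩
    exact (mem_emb_iff u hP hP' hr U hU hd _ ha ⟨x, hxG⟩).2 ⟨U', hU', hle, hm⟩
  have hle : G' ≤ G := fun x hx => (hchart x hx).1
  let r₁ := IsOpenImmersion.lift Gv.ι (P'.homOfLE hle ≫ r) (by
    rw [Scheme.Opens.range_ι]
    rintro _ ⟨x, rfl⟩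
    rw [Scheme.Hom.comp_apply]
    have h1 : (P'.homOfLE hle) x = ⟨x.1, hle x.2⟩ := Subtype.ext (Scheme.homOfLE_apply _ _)
    rw [h1]
    exact (hchart x.1 x.2).2)
  have hr₁ : r₁ ≫ Gv.ι = P'.homOfLE hle ≫ r := IsOpenImmersion.lift_fac _ _ _
  have hcomp : RelProj.IsProjQMapOn u' pT chartT p' chart' G' (r₁ ≫ ρ) := by
    intro U hU U' hU' hl d hd b hb hW
    let ψ := u'.gradedAt U hU U' hU' hl
    let χ := u.gradedAt U hU U' hU' hl
    let ν := vQ.gradedAt U hU U hU le_rfl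
    have ha : ν b ∈ 𝒮.deg U hU d := ν.map_mem hb
    obtain ⟨ω, hω, hωmk⟩ := exists_away_cast hd (ψ.map_mem hb) (χ.map_mem ha)
      (gradedAt_comp hu' U hU U' hU' hl b).symm
    let cu := IsOpenImmersion.lift G'.ι (RelProj.awayEmb u' p' chart' U hU U' hU' hl hd b hb) hW
    have hcu : cu ≫ P'.homOfLE hle =
        Spec.map (CommRingCat.ofHom ω) ≫ domChart u p' chart' U hU U' hU' hl hd (ν b) ha := by
      rw [← cancel_mono G.ι, Category.assoc, Category.assoc, Scheme.homOfLE_ι, IsOpenImmersion.lift_fac,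
        domChart_ι]
      exact (congrArg (· ≫ RelProj.emb p' chart' U' hU') hω).trans (Category.assoc _ _ _)
    have hmid : domChart u p' chart' U hU U' hU' hl hd (ν b) ha ≫ r =
        Spec.map (CommRingCat.ofHom (Away.map χ (ν b))) ≫
          Proj.awayι (𝒮.deg U hU) (ν b) ha hd ≫ RelProj.emb p chart U hU :=
      hr U hU U' hU' hl d hd (ν b) ha _
    have hcr : cu ≫ r₁ = Spec.map (CommRingCat.ofHom ω) ≫ Spec.map (CommRingCat.ofHom (Away.map χ (ν b))) ≫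
        domChart vQ p chart U hU U hU le_rfl hd b hb := by
      rw [← cancel_mono Gv.ι, Category.assoc, Category.assoc, Category.assoc, hr₁, domChart_ι,
        reassoc_of% hcu, hmid]
      rfl
    have hlast : domChart vQ p chart U hU U hU le_rfl hd b hb ≫ ρ =
        Spec.map (CommRingCat.ofHom (Away.map ν b)) ≫
          Proj.awayι (𝒯.deg U hU) b hb hd ≫ RelProj.emb pT chartT U hU :=
      hρ U hU U hU le_rfl d hd b hb _
    show cu ≫ r₁ ≫ ρ = _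
    rw [reassoc_of% hcr, hlast]
    have hring : (ω.comp (Away.map χ (ν b))).comp (Away.map ν b) = Away.map ψ b := by
      refine RingHom.ext fun q => ?_
      obtain ⟨n, a, ha', rfl⟩ := Away.mk_surjective (𝒯.deg U hU) hb q
      rw [RingHom.comp_apply, RingHom.comp_apply, Away.map_mk, Away.map_mk, Away.map_mk, hωmk]
      refine HomogeneousLocalization.val_injective _ ?_
      rw [Away.val_mk, Away.val_mk]
      congr 1
      exact (gradedAt_comp hu' U hU U' hU' hl a).symm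
    rw [← hring, CommRingCat.ofHom_comp, CommRingCat.ofHom_comp, Spec.map_comp, Spec.map_comp]
    simp only [Category.assoc]
  refine ⟨hle, r₁, ρ, hρ, hr₁, (existsUnique_projQMapOn u' hT hP').unique hr' hcomp, fun x hx => ?_⟩
  obtain ⟨U₀, hU₀, U, hU, hl, d, hd, b, hb, hxb⟩ := domChart_cover vQ ⟨r x, hx⟩
  have hm := (mem_domChart vQ ⟨r x, hx⟩ U₀ hU₀ U hU hl hd b hb).1 hxb
  let b' := 𝒯.res hU₀ hU hl b
  have hb' : b' ∈ 𝒯.deg U hU d := (𝒯.res hU₀ hU hl).map_mem hb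
  have e : vQ.gradedAt U₀ hU₀ U hU hl b = vQ.gradedAt U hU U hU le_rfl b' := by
    show _ = (𝒯.presheaf.map (homOfLE hl).op ≫ vQ.appLE U U le_rfl).hom b
    rw [RelSpec.QHom.map_appLE]
    rfl
  rw [e] at hm
  obtain ⟨U', hU', hl', hx'⟩ :=
    (mem_emb_iff u hP hP' hr U hU hd _ ((vQ.gradedAt U hU U hU le_rfl).map_mem hb') x).1 hm
  refine mem_domQ_of_mem_emb u' U hU U' hU' hl' hd b' hb' x.1 ?_
  rw [gradedAt_comp hu' U hU U' hU' hl' b']
  exact hx'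

end Comp

end Groth.Agent.EGA2Misc
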