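import Mathlib.AlgebraicGeometry.Morphisms.UnderlyingMap
import Mathlib.Topology.Category.TopCat.EpiMono

/-! Descent along a quotient map with isomorphic structure sheaves. -/

set_option autoImplicit false

universe u

open CategoryTheory AlgebraicGeometry Opposite TopCat

namespace Groth.Agent.EGA2Misc

section PS

variable {X Y Z : PresheafedSpace.{u} CommRingCat.{u}} (f : X ⟶ Y) [IsIso f.c]

theorem ps_eq_of_comp_eq (hs : Function.Surjective f.base) {a b : Y ⟶ Z} (e : f ≫ a = f ≫ b) :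
    a = b := by
  have hb : a.base = b.base := by
    ext y
    obtain ⟨x, rfl⟩ := hs y
    exact congr(($e).base x)
  obtain ⟨ab, ac⟩ := a
  obtain ⟨bb, bc⟩ := b
  obtain rfl : ab = bb := hb
  have h2 : ac ≫ (TopCat.Presheaf.pushforward CommRingCat ab).map f.c =
      bc ≫ (TopCat.Presheaf.pushforward CommRingCat ab).map f.c :=
    eq_of_heq (congr_arg_heq (fun m : X ⟶ Z => m.c) e)
  exact congrArg (PresheafedSpace.Hom.mk ab) ((cancel_mono _).1 h2)

theorem ps_exists_desc (a : X ⟶ Z) (vb : (Y : TopCat) ⟶ Z) (ha : a.base = f.base ≫ vb) :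
    ∃ b : Y ⟶ Z, f ≫ b = a := by
  obtain ⟨ab, ac⟩ := a
  obtain rfl : ab = f.base ≫ vb := ha
  refine ⟨⟨vb, ac ≫ (TopCat.Presheaf.pushforward CommRingCat vb).map (inv f.c)⟩, ?_⟩
  refine PresheafedSpace.hext _ _ rfl (heq_of_eq ?_)
  exact (Category.assoc _ _ _).trans ((congrArg (ac ≫ ·) (((TopCat.Presheaf.pushforward CommRingCat
    vb).map_comp (inv f.c) f.c).symm.trans ((congrArg _ (IsIso.inv_hom_id f.c)).trans
      ((TopCat.Presheaf.pushforward CommRingCat vb).map_id _)))).trans (Category.comp_id _))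

theorem ps_isLocalHom (hs : Function.Surjective f.base) (b : Y ⟶ Z) (a : X ⟶ Z) (e : f ≫ b = a)
    (ha : ∀ x, IsLocalHom (a.stalkMap x).hom) (y : Y) : IsLocalHom (b.stalkMap y).hom := by
  obtain ⟨x, rfl⟩ := hs y
  subst e
  have h1 := ha x
  rw [PresheafedSpace.stalkMap.comp] at h1
  exact @isLocalHom_of_comp _ _ _ _ _ _ (b.stalkMap (f.base x)).hom (f.stalkMap x).hom h1

end PS

variable {U V W : Scheme.{u}} (h : U ⟶ V) [IsIso h.c]

include h in
theorem eq_of_comp_eq [Surjective h] {v₁ v₂ : V ⟶ W} (e : h ≫ v₁ = h ≫ v₂) : v₁ = v₂ := by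
  refine Scheme.Hom.ext' (LocallyRingedSpace.Hom.ext' ?_)
  haveI : IsIso h.toLRSHom.toHom.c := ‹IsIso h.c›
  exact ps_eq_of_comp_eq h.toLRSHom.toHom h.surjective
    (congrArg (fun m : U ⟶ W => (m.toLRSHom.toHom : U.toPresheafedSpace ⟶ W.toPresheafedSpace)) e)

theorem exists_desc [Surjective h] (hq : Topology.IsQuotientMap h.base) (u : U ⟶ W)
    (hu : ∀ x y : U, h.base x = h.base y → u.base x = u.base y) : ∃ v : V ⟶ W, h ≫ v = u := by
  haveI : IsIso h.toLRSHom.toHom.c := ‹IsIso h.c›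
  let vb : (V : TopCat) ⟶ W := TopCat.ofHom (hq.lift u.base.hom hu)
  have hvb : u.base = h.base ≫ vb := by
    ext x
    exact congr($(hq.lift_comp u.base.hom hu) x).symm
  obtain ⟨b, hb⟩ := ps_exists_desc h.toLRSHom.toHom u.toLRSHom.toHom vb hvb
  have hloc := ps_isLocalHom h.toLRSHom.toHom h.surjective b u.toLRSHom.toHom hb u.toLRSHom.prop
  exact ⟨⟨⟨b, hloc⟩⟩, Scheme.Hom.ext' (LocallyRingedSpace.Hom.ext' hb)⟩

end Groth.Agent.EGA2Misc
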