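import Groth.Prelude.Def_RelProj4
import Groth.Prelude.Def_RelSpec2
import Groth.Agent.RelSpecLib.Basic

/-! Domains of definition of maps of relative Proj; the vertex of the affine cone. -/

set_option autoImplicit false

universe u

open CategoryTheory CategoryTheory.Limits AlgebraicGeometry Opposite
open scoped HomogeneousIdeal

namespace Groth.Agent.EGA2Misc

/-- A graded ring homomorphism maps the irrelevant ideal into the irrelevant ideal. -/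
theorem map_irrelevant_mem {A B : Type u} [CommRing A] [CommRing B] {𝒜 : ℕ → AddSubgroup A} [GradedRing 𝒜]
    {ℬ : ℕ → AddSubgroup B} [GradedRing ℬ] (φ : 𝒜 →+*ᵍ ℬ) {a : A}
    (ha : a ∈ (HomogeneousIdeal.irrelevant 𝒜).toIdeal) : φ a ∈ (HomogeneousIdeal.irrelevant ℬ).toIdeal := by
  classical
  rw [← DirectSum.sum_support_decompose 𝒜 a, map_sum]
  refine Ideal.sum_mem _ fun i hi => ?_
  have hi0 : i ≠ 0 := by
    rintro rfl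
    replace ha := (HomogeneousIdeal.mem_irrelevant_iff 𝒜 a).1 ha
    rw [GradedRing.proj_apply] at ha
    exact (DFinsupp.mem_support_iff.1 hi) (Subtype.ext ha)
  exact HomogeneousIdeal.mem_irrelevant_of_mem ℬ (Nat.pos_of_ne_zero hi0) (φ.map_mem (Subtype.prop _))

theorem domQ_comp_le {Y X PL : Scheme.{u}} (q : X ⟶ Y) (𝒮 : RelProj.QCGrAlg Y) (𝒮L : RelProj.QCGrAlg X)
    (u : RelProj.QGrHom q 𝒮 𝒮L) (pL : PL ⟶ X)
    (chartL : ∀ (U : X.Opens) (hU : IsAffineOpen U), (((pL ⁻¹ᵁ U : PL.Opens) : Scheme.{u}) ≅ Proj (𝒮L.deg U hU)))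
    (𝒯 : RelProj.QCGrAlg Y) (v : 𝒯.toQCAlg ⟶ 𝒮.toQCAlg) (hv : RelProj.IsGradedHom v)
    (u' : RelProj.QGrHom q 𝒯 𝒮L) (hu' : ∀ U : Y.Opens, u'.app U = v.hom.app (op U) ≫ u.app U) :
    RelProj.domQ u' pL chartL ≤ RelProj.domQ u pL chartL := by
  refine iSup_mono fun V => Scheme.Hom.image_mono _ fun x hx => ?_
  obtain ⟨f, hf, hfx⟩ := (RelCone.mem_domOpen _ x).1 hx
  refine (RelCone.mem_domOpen _ x).2 ⟨RelProj.gradedHomAt v hv V.1.1.1 V.1.1.2 f, map_irrelevant_mem _ hf, ?_⟩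
  rw [RelProj.QGrHom.gradedAt_apply] at hfx ⊢
  convert hfx using 2
  show _ = (u'.app V.1.1.1 ≫ 𝒮L.presheaf.map _).hom f
  rw [hu']
  rfl

theorem domQ_eq_top_of_locally {Y PB : Scheme.{u}} (𝒜 ℬ : RelProj.QCGrAlg Y)
    (φ : 𝒜.toQCAlg ⟶ ℬ.toQCAlg) (hφ : RelProj.IsGradedHom φ)
    (pB : PB ⟶ Y) (chartB : ∀ (U : Y.Opens) (hU : IsAffineOpen U), (((pB ⁻¹ᵁ U : PB.Opens) : Scheme.{u}) ≅ Proj (ℬ.deg U hU)))
    (hcov : ∀ y : Y, ∃ (U : Y.Opens) (hU : IsAffineOpen U), y ∈ U ∧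
      (ℬ.deg U hU)₊ ≤ ((𝒜.deg U hU)₊).map (RelProj.gradedHomAt φ hφ U hU)) :
    RelProj.domQ (RelProj.QGrHom.ofHom φ hφ) pB chartB = ⊤ := by
  rw [eq_top_iff]
  intro y _
  obtain ⟨U, hU, hyU, hle⟩ := hcov (pB y)
  refine TopologicalSpace.Opens.mem_iSup.2 ⟨⟨(⟨U, hU⟩, ⟨U, hU⟩), le_rfl⟩, (chartB U hU).hom ⟨y, hyU⟩, ?_, ?_⟩
  · refine (RelCone.mem_domOpen _ _).2 ?_
    by_contra h
    push Not at h
    refine ((chartB U hU).hom ⟨y, hyU⟩).not_irrelevant_le (hle.trans ?_)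
    show (HomogeneousIdeal.map (RelProj.gradedHomAt φ hφ U hU) (HomogeneousIdeal.irrelevant (𝒜.deg U hU))).toIdeal ≤ _
    rw [HomogeneousIdeal.toIdeal_map, Ideal.map_le_iff_le_comap]
    intro f hf
    have := h f hf
    rw [RelProj.QGrHom.gradedAt_apply] at this
    have e : ((RelProj.QGrHom.ofHom φ hφ).appLE U U le_rfl).hom f = RelProj.gradedHomAt φ hφ U hU f := by
      show (φ.hom.app (op U) ≫ ℬ.presheaf.map (homOfLE _).op).hom f = (φ.hom.app (op U)).hom f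
      rw [show ℬ.presheaf.map (homOfLE (le_refl U)).op = 𝟙 _ from ℬ.presheaf.map_id _]
      rfl
    rw [Ideal.mem_comap, ← e]
    exact this
  · show ((chartB U hU).inv ≫ (pB ⁻¹ᵁ U).ι) ((chartB U hU).hom ⟨y, hyU⟩) = y
    rw [← Scheme.Hom.comp_apply, Iso.hom_inv_id_assoc]
    rfl

theorem preimage_pointedCone_le {Y Y' : Scheme.{u}} (q : Y' ⟶ Y) (𝒮 : RelProj.QCGrAlg Y) (𝒮' : RelProj.QCGrAlg Y')
    (u : 𝒮.presheaf ⟶ q.base _* 𝒮'.presheaf)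
    (hu : 𝒮.str ≫ u = q.c ≫ (TopCat.Presheaf.pushforward CommRingCat.{u} q.base).map 𝒮'.str)
    (φ : ∀ (U : Y.Opens) (hU : IsAffineOpen U) (U' : Y'.Opens) (hU' : IsAffineOpen U') (_ : U' ≤ q ⁻¹ᵁ U),
      𝒮.deg U hU →+*ᵍ 𝒮'.deg U' hU')
    (hφ : ∀ (U : Y.Opens) (hU : IsAffineOpen U) (U' : Y'.Opens) (hU' : IsAffineOpen U') (hle : U' ≤ q ⁻¹ᵁ U),
      (φ U hU U' hU' hle).toRingHom =
        ((u.app (op U) : 𝒮.presheaf.obj (op U) ⟶ 𝒮'.presheaf.obj (op (q ⁻¹ᵁ U))) ≫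
          𝒮'.presheaf.map (homOfLE hle).op).hom)
    (Φ : 𝒮'.toQCAlg.spec ⟶ 𝒮.toQCAlg.spec)
    (hΦ : ∀ (U : Y.Opens) (hU : IsAffineOpen U) (U' : Y'.Opens) (hU' : IsAffineOpen U') (hle : U' ≤ q ⁻¹ᵁ U),
      𝒮'.toQCAlg.ι U' hU' ≫ Φ =
        Spec.map ((u.app (op U) : 𝒮.presheaf.obj (op U) ⟶ 𝒮'.presheaf.obj (op (q ⁻¹ᵁ U))) ≫
          𝒮'.presheaf.map (homOfLE hle).op) ≫ 𝒮.toQCAlg.ι U hU) :
    Φ ⁻¹ᵁ RelCone.pointedCone 𝒮 ≤ RelCone.pointedCone 𝒮' := by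
  intro y hy
  obtain ⟨⟨U, hU⟩, w, hw, hwy⟩ := TopologicalSpace.Opens.mem_iSup.1 hy
  -- an affine neighbourhood of the image of `y`
  let J := {V : Y'.affineOpens × Y.affineOpens // (V.1 : Y'.Opens) ≤ q ⁻¹ᵁ (V.2 : Y.Opens)}
  have hcov : TopologicalSpace.IsOpenCover fun V : J => (V.1.1 : Y'.Opens) := by
    refine .mk (top_le_iff.1 fun x _ => ?_)
    obtain ⟨_, ⟨W, hW, rfl⟩, hxW, -⟩ :=
      Y.isBasis_affineOpens.exists_subset_of_mem_open (Set.mem_univ (q x)) isOpen_univ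
    obtain ⟨_, ⟨V, hV, rfl⟩, hxV, hVW⟩ :=
      Y'.isBasis_affineOpens.exists_subset_of_mem_open (a := x) (u := q ⁻¹ᵁ W) hxW (q ⁻¹ᵁ W).2
    exact TopologicalSpace.Opens.mem_iSup.2 ⟨⟨(⟨V, hV⟩, ⟨W, hW⟩), hVW⟩, hxV⟩
  have hsq : Φ ≫ 𝒮.toQCAlg.π = 𝒮'.toQCAlg.π ≫ q := by
    refine RelSpecLib.hom_ext_charts 𝒮'.toQCAlg (fun V : J => (V.1.1 : Y'.Opens)) (fun V => V.1.1.2) hcov
      fun V => ?_
    rw [reassoc_of% (hΦ V.1.2.1 V.1.2.2 V.1.1.1 V.1.1.2 V.2), RelSpec.QCAlg.ι_π, ← Category.assoc,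
      ← Category.assoc, ← Spec.map_comp]
    refine Eq.trans ?_ ((congrArg (· ≫ q) (RelSpec.QCAlg.ι_π 𝒮'.toQCAlg V.1.1.1 V.1.1.2)).trans
      ((Category.assoc _ _ _).trans (congrArg (Spec.map (𝒮'.str.app (op V.1.1.1)) ≫ ·)
        (IsAffineOpen.SpecMap_appLE_fromSpec q V.1.2.2 V.1.1.2 V.2).symm))).symm
    refine Eq.trans ?_ ((congrArg (· ≫ _) (Spec.map_comp _ _)).trans (Category.assoc _ _ _))
    congr 2
    have h1 := NatTrans.congr_app hu (op V.1.2.1)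
    refine (Category.assoc _ _ _).symm.trans ((congrArg (· ≫ _) h1).trans ((Category.assoc _ _ _).trans ?_))
    refine Eq.trans ?_ (Category.assoc _ _ _).symm
    exact congrArg (q.app _ ≫ ·) (𝒮'.str.naturality (homOfLE V.2).op).symm
  have hπy : 𝒮'.toQCAlg.π y ∈ q ⁻¹ᵁ U := by
    show q (𝒮'.toQCAlg.π y) ∈ U
    rw [← Scheme.Hom.comp_apply, ← hsq, Scheme.Hom.comp_apply, ← hwy]
    have : 𝒮.toQCAlg.ι U hU w ∈ 𝒮.toQCAlg.π ⁻¹ᵁ U := by rw [RelSpec.QCAlg.π_preimage _ U hU]; exact ⟨w, rfl⟩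
    exact this
  obtain ⟨_, ⟨U', hU', rfl⟩, hyU', hle⟩ :=
    Y'.isBasis_affineOpens.exists_subset_of_mem_open (a := 𝒮'.toQCAlg.π y) (u := q ⁻¹ᵁ U) hπy (q ⁻¹ᵁ U).2
  have hy' : y ∈ 𝒮'.toQCAlg.π ⁻¹ᵁ U' := hyU'
  rw [RelSpec.QCAlg.π_preimage _ U' hU'] at hy'
  obtain ⟨z, rfl⟩ := hy'
  refine TopologicalSpace.Opens.mem_iSup.2 ⟨⟨U', hU'⟩, z, ?_, rfl⟩
  intro hz
  have h1 := congr($(hΦ U hU U' hU' hle) z)
  rw [Scheme.Hom.comp_apply, Scheme.Hom.comp_apply, ← hwy] at h1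
  have h2 := (𝒮.toQCAlg.ι U hU).isOpenEmbedding.injective h1
  refine hw (h2 ▸ fun a ha => ?_)
  have h3 := hz (map_irrelevant_mem (φ U hU U' hU' hle) ha)
  have h4 : φ U hU U' hU' hle a = ((u.app (op U) : 𝒮.presheaf.obj (op U) ⟶ 𝒮'.presheaf.obj (op (q ⁻¹ᵁ U))) ≫
          𝒮'.presheaf.map (homOfLE hle).op).hom a := congr($(hφ U hU U' hU' hle) a)
  rw [h4] at h3
  exact h3

theorem existsUnique_vertex {Y : Scheme.{u}} (𝒮 : RelProj.QCGrAlg Y)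
    (aug : 𝒮.toQCAlg ⟶ RelSpec.QCAlg.unit Y) :
    (∃! ε : Y ⟶ 𝒮.toQCAlg.spec, RelCone.IsVertex 𝒮 aug ε) ∧
      ∀ ε : Y ⟶ 𝒮.toQCAlg.spec, RelCone.IsVertex 𝒮 aug ε → IsClosedImmersion ε := by
  let ω : 𝒮.presheaf ⟶ (𝟙 Y : Y ⟶ Y).base _* Y.presheaf := aug.hom
  have hω : 𝒮.str ≫ ω = (𝟙 Y : Y ⟶ Y).c := aug.comm
  refine ⟨⟨RelSpecLib.lift (𝟙 Y) ω, ⟨RelSpecLib.lift_π (𝟙 Y) ω hω, fun U hU => ?_⟩, fun ε hε => ?_⟩, fun ε hε => ?_⟩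
  · have h : U.ι ≫ RelSpecLib.lift (𝟙 Y) ω =
        U.toSpecΓ ≫ Spec.map (aug.hom.app (op U)) ≫ 𝒮.toQCAlg.ι U hU :=
      RelSpecLib.ι_lift (𝟙 Y) ω U hU
    rw [← IsAffineOpen.isoSpec_inv_ι, Category.assoc, h, ← IsAffineOpen.isoSpec_hom hU, Iso.inv_hom_id_assoc]
    rfl
  · refine RelSpecLib.lift_unique (𝟙 Y) ω ε fun U hU => ?_
    show U.ι ≫ ε = U.toSpecΓ ≫ Spec.map (aug.hom.app (op U)) ≫ 𝒮.toQCAlg.ι U hU
    refine Eq.trans ?_ (congrArg (U.toSpecΓ ≫ ·) (hε.chart U hU))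
    show U.ι ≫ ε = U.toSpecΓ ≫ hU.fromSpec ≫ ε
    rw [← IsAffineOpen.isoSpec_inv_ι, Category.assoc, ← IsAffineOpen.isoSpec_hom hU,
      Iso.hom_inv_id_assoc]
  · haveI : IsAffineHom 𝒮.toQCAlg.π := ⟨fun U hU => by
      rw [RelSpec.QCAlg.π_preimage _ U hU]
      exact isAffineOpen_opensRange _⟩
    haveI : IsClosedImmersion (ε ≫ 𝒮.toQCAlg.π) := by rw [hε.comp_π]; infer_instance
    exact IsClosedImmersion.of_comp ε 𝒮.toQCAlg.π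

end Groth.Agent.EGA2Misc
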