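import Mathlib
import Groth.Prelude.Def_RelProj
import Groth.Agent.EGA2Misc.RelProjBasic

/-!
# Relative Proj of an algebra generated by a finite type degree one part is of finite type
-/

noncomputable section

universe u

open CategoryTheory CategoryTheory.Limits AlgebraicGeometry Opposite TopologicalSpace
open HomogeneousLocalization
open scoped HomogeneousIdeal

namespace Groth.Agent.EGA2Misc

variable {A : Type u} [CommRing A] {σ : Type*} [SetLike σ A] [AddSubgroupClass σ A] (𝒜 : ℕ → σ)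
  [GradedRing 𝒜]

theorem irrelevant_le_span (hgen : Subring.closure ((𝒜 0 : Set A) ∪ (𝒜 1 : Set A)) = ⊤)
    (T : Set A) (hT : ∀ x ∈ 𝒜 1, x ∈ Ideal.span T) :
    (HomogeneousIdeal.irrelevant 𝒜).toIdeal ≤ Ideal.span T := by
  have key : ∀ x : A, x - GradedRing.projZeroRingHom 𝒜 x ∈ Ideal.span T := by
    intro x
    have hx : x ∈ Subring.closure ((𝒜 0 : Set A) ∪ (𝒜 1 : Set A)) := hgen ▸ Subring.mem_top x
    induction hx using Subring.closure_induction with
    | mem y hy =>
      rcases hy with hy | hy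
      · rw [GradedRing.projZeroRingHom_apply, DirectSum.decompose_of_mem_same 𝒜 hy, sub_self]
        exact zero_mem _
      · rw [GradedRing.projZeroRingHom_apply, DirectSum.decompose_of_mem_ne 𝒜 hy one_ne_zero,
          sub_zero]
        exact hT y hy
    | zero => simp
    | one => rw [map_one, sub_self]; exact zero_mem _
    | add a b _ _ ha hb =>
      rw [map_add, add_sub_add_comm]
      exact add_mem ha hb
    | neg a _ ha =>
      rw [map_neg, neg_sub_neg, ← neg_sub]
      exact neg_mem ha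
    | mul a b _ _ ha hb =>
      rw [map_mul, show a * b - GradedRing.projZeroRingHom 𝒜 a * GradedRing.projZeroRingHom 𝒜 b =
        (a - GradedRing.projZeroRingHom 𝒜 a) * b +
          GradedRing.projZeroRingHom 𝒜 a * (b - GradedRing.projZeroRingHom 𝒜 b) by ring]
      exact add_mem (Ideal.mul_mem_right _ _ ha) (Ideal.mul_mem_left _ _ hb)
  intro x hx
  have h := key x
  have h0 : GradedRing.projZeroRingHom 𝒜 x = 0 := by
    rw [GradedRing.projZeroRingHom_apply, ← GradedRing.proj_apply]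
    exact (HomogeneousIdeal.mem_irrelevant_iff 𝒜 x).1 hx
  rwa [h0, sub_zero] at h

theorem finiteType_away {R : Type u} [CommRing R] (τ : R →+* 𝒜 0) (T : Finset A)
    (hT1 : (↑T : Set A) ⊆ 𝒜 1) (hT : ∀ x ∈ 𝒜 1, ∃ c : A → R, x = ∑ t ∈ T, (τ (c t) : A) * t)
    (hgen : Subring.closure ((𝒜 0 : Set A) ∪ (𝒜 1 : Set A)) = ⊤) (t : A) (ht : t ∈ 𝒜 1) :
    ((fromZeroRingHom 𝒜 (Submonoid.powers t)).comp τ).FiniteType := by
  let g := (fromZeroRingHom 𝒜 (Submonoid.powers t)).comp τ
  letI := g.toAlgebra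
  let e : T → Away 𝒜 t := fun s => Away.mk 𝒜 ht 1 s.1 (by rw [one_smul]; exact hT1 s.2)
  let B : Subalgebra R (Away 𝒜 t) := Algebra.adjoin R (Set.range e)
  let L := Localization.Away t
  let u : L := Localization.mk 1 ⟨t, Submonoid.mem_powers t⟩
  let Bv : Subring L := B.toSubring.map (algebraMap (Away 𝒜 t) L)
  have hu : algebraMap A L t * u = 1 := by
    rw [← Localization.mk_one_eq_algebraMap, Localization.mk_mul, mul_one, one_mul]
    exact Localization.mk_self ⟨t, Submonoid.mem_powers t⟩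
  have hmk : ∀ (x : A) (n : ℕ),
      Localization.mk x (⟨t ^ n, n, rfl⟩ : Submonoid.powers t) = algebraMap A L x * u ^ n := by
    intro x n
    rw [← Localization.mk_one_eq_algebraMap, Localization.mk_pow, Localization.mk_mul, one_pow, mul_one,
      one_mul]
    rfl
  have hR : ∀ r : R, algebraMap A L (τ r : A) ∈ Bv := fun r =>
    ⟨algebraMap R (Away 𝒜 t) r, B.algebraMap_mem r, by
      show (fromZeroRingHom 𝒜 (Submonoid.powers t) (τ r)).val = _
      rw [← Localization.mk_one_eq_algebraMap]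
      rfl⟩
  have h1 : ∀ x ∈ 𝒜 1, algebraMap A L x * u ∈ Bv := by
    intro x hx
    obtain ⟨c, rfl⟩ := hT x hx
    rw [map_sum, Finset.sum_mul]
    refine sum_mem fun s hs => ?_
    rw [map_mul, mul_assoc]
    refine mul_mem (hR _) ⟨e ⟨s, hs⟩, Algebra.subset_adjoin ⟨⟨s, hs⟩, rfl⟩, ?_⟩
    show (e ⟨s, hs⟩).val = _
    rw [Away.val_mk, hmk, pow_one]
  have h0 : ∀ x ∈ 𝒜 0, algebraMap A L x ∈ Bv := by
    intro x hx
    have := h1 (x * t) (by simpa using SetLike.mul_mem_graded hx ht)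
    rwa [map_mul, mul_assoc, hu, mul_one] at this
  have hM : ∀ m ∈ Submonoid.closure ((𝒜 0 : Set A) ∪ (𝒜 1 : Set A)),
      ∃ n, m ∈ 𝒜 n ∧ algebraMap A L m * u ^ n ∈ Bv := by
    intro m hm
    induction hm using Submonoid.closure_induction with
    | mem y hy =>
      rcases hy with hy | hy
      · exact ⟨0, hy, by rw [pow_zero, mul_one]; exact h0 y hy⟩
      · exact ⟨1, hy, by rw [pow_one]; exact h1 y hy⟩
    | one =>
      exact ⟨0, SetLike.one_mem_graded 𝒜, by rw [map_one, pow_zero, mul_one]; exact one_mem _⟩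
    | mul a b _ _ ha hb =>
      obtain ⟨i, hi, hi'⟩ := ha
      obtain ⟨j, hj, hj'⟩ := hb
      refine ⟨i + j, SetLike.mul_mem_graded hi hj, ?_⟩
      rw [map_mul, pow_add, mul_mul_mul_comm]
      exact mul_mem hi' hj'
  have hall : ∀ (x : A) (n : ℕ), algebraMap A L (DirectSum.decompose 𝒜 x n : A) * u ^ n ∈ Bv := by
    intro x n
    have hx : x ∈ AddSubgroup.closure
        (Submonoid.closure ((𝒜 0 : Set A) ∪ (𝒜 1 : Set A)) : Set A) :=
      Subring.mem_closure_iff.1 (hgen ▸ Subring.mem_top x)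
    induction hx using AddSubgroup.closure_induction with
    | mem y hy =>
      obtain ⟨i, hi, hi'⟩ := hM y hy
      by_cases h : i = n
      · subst h
        rwa [DirectSum.decompose_of_mem_same 𝒜 hi]
      · rw [DirectSum.decompose_of_mem_ne 𝒜 hi h, map_zero, zero_mul]
        exact zero_mem _
    | zero => simp
    | add a b _ _ ha hb =>
      rw [DirectSum.decompose_add, DirectSum.add_apply, AddMemClass.coe_add, map_add, add_mul]
      exact add_mem ha hb
    | neg a _ ha =>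
      rw [DirectSum.decompose_neg, DFinsupp.neg_apply, NegMemClass.coe_neg, map_neg, neg_mul]
      exact neg_mem ha
  have htop : B = ⊤ := by
    rw [eq_top_iff]
    intro q _
    obtain ⟨n, a, ha, rfl⟩ := Away.mk_surjective 𝒜 ht q
    have ha' : a ∈ 𝒜 n := by simpa using ha
    obtain ⟨b, hb, hb'⟩ := hall a n
    rw [DirectSum.decompose_of_mem_same 𝒜 ha'] at hb'
    have : b = Away.mk 𝒜 ht n a ha := by
      refine val_injective _ ?_
      rw [Away.val_mk, hmk]
      exact hb'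
    exact this ▸ hb
  exact ⟨Subalgebra.fg_def.2 ⟨Set.range e, Set.finite_range e, htop⟩⟩


/-- `Proj` is of finite type over any ring over which the degree one part is finitely generated. -/
theorem proj_finiteType {R : CommRingCat.{u}} (τ : R ⟶ CommRingCat.of (𝒜 0)) (T : Finset A)
    (hT1 : (↑T : Set A) ⊆ 𝒜 1) (hT : ∀ x ∈ 𝒜 1, ∃ c : A → R, x = ∑ t ∈ T, (τ.hom (c t) : A) * t)
    (hgen : Subring.closure ((𝒜 0 : Set A) ∪ (𝒜 1 : Set A)) = ⊤) :
    LocallyOfFiniteType (Proj.toSpecZero 𝒜 ≫ Spec.map τ) ∧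
      QuasiCompact (Proj.toSpecZero 𝒜 ≫ Spec.map τ) := by
  have hspan : (HomogeneousIdeal.irrelevant 𝒜).toIdeal ≤ Ideal.span (Set.range fun t : T => (t : A)) := by
    refine irrelevant_le_span 𝒜 hgen _ fun x hx => ?_
    obtain ⟨c, rfl⟩ := hT x hx
    exact sum_mem fun t ht => Ideal.mul_mem_left _ _ (Ideal.subset_span ⟨⟨t, ht⟩, rfl⟩)
  let 𝒰 := Proj.affineOpenCoverOfIrrelevantLESpan 𝒜 (fun t : T => (t : A)) (m := fun _ => 1)
    (fun t => hT1 t.2) (fun _ => one_pos) hspan
  refine ⟨IsZariskiLocalAtSource.of_openCover 𝒰.openCover fun (t : T) => ?_, ?_⟩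
  · show LocallyOfFiniteType (Proj.awayι 𝒜 (t : A) (hT1 t.2) one_pos ≫ Proj.toSpecZero 𝒜 ≫ Spec.map τ)
    rw [← Category.assoc, Proj.awayι_toSpecZero]
    rw [← Spec.map_comp]
    exact (HasRingHomProperty.Spec_iff (P := @LocallyOfFiniteType)).2
      (finiteType_away 𝒜 τ.hom T hT1 hT hgen t.1 (hT1 t.2))
  · haveI : Finite 𝒰.openCover.I₀ := inferInstanceAs (Finite T)
    haveI : ∀ i, IsAffine (𝒰.openCover.X i) := fun i => inferInstanceAs (IsAffine (Spec _))
    haveI : CompactSpace (Proj 𝒜) := 𝒰.openCover.compactSpace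
    exact quasiCompact_of_compactSpace _

theorem relProj_finiteType {Y P : Scheme.{u}} {𝒮 : RelProj.QCGrAlg Y}
    (hgen : 𝒮.IsGenDegOne) (hft : 𝒮.IsFTDeg 1) {p : P ⟶ Y}
    {chart : ∀ (U : Y.Opens) (hU : IsAffineOpen U), (((p ⁻¹ᵁ U : P.Opens) : Scheme.{u}) ≅ Proj (𝒮.deg U hU))}
    (hP : RelProj.IsRelProj 𝒮 p chart) : LocallyOfFiniteType p ∧ QuasiCompact p := by
  have key : ∀ U : Y.affineOpens, LocallyOfFiniteType (p ∣_ U.1) ∧ QuasiCompact (p ∣_ U.1) := by
    intro U
    have h : p ∣_ U.1 = (chart U.1 U.2).hom ≫ (Proj.toSpecZero (𝒮.deg U.1 U.2) ≫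
        Spec.map (𝒮.strZero U.1 U.2)) ≫ U.2.isoSpec.inv := by
      rw [← cancel_mono U.1.ι, morphismRestrict_ι]
      simp only [Category.assoc, IsAffineOpen.isoSpec_inv_ι]
      exact (hP.chart_over U.1 U.2).symm
    obtain ⟨T, hT1, hT⟩ := hft U.1 U.2
    obtain ⟨h1, h2⟩ := proj_finiteType (𝒮.deg U.1 U.2) (𝒮.strZero U.1 U.2) T hT1 hT (hgen U.1 U.2)
    rw [h]
    exact ⟨inferInstance, inferInstance⟩
  exact ⟨IsZariskiLocalAtTarget.of_iSup_eq_top (fun U : Y.affineOpens => U.1)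
      (AlgebraicGeometry.iSup_affineOpens_eq_top Y) fun U => (key U).1,
    IsZariskiLocalAtTarget.of_iSup_eq_top (fun U : Y.affineOpens => U.1)
      (AlgebraicGeometry.iSup_affineOpens_eq_top Y) fun U => (key U).2⟩

end Groth.Agent.EGA2Misc
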