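import Mathlib
import Groth.Prelude.Def_RelSpec
import Groth.Agent.RelSpecLib.Basic
import Groth.Agent.EGA2Misc.AlgOf
import Groth.Agent.EGA2Misc.AffReflect

/-!
# Morphisms into a relative spectrum over the base are algebra homomorphisms
-/

noncomputable section

universe u

open CategoryTheory Limits AlgebraicGeometry Opposite TopologicalSpace RelSpec

namespace EGA2SpecUniv

variable {S T : Scheme.{u}}

theorem presheaf_hom_ext {F : TopCat.Presheaf CommRingCat.{u} S.carrier} (B : QCAlg S)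
    {α β : F ⟶ B.presheaf}
    (h : ∀ U : S.Opens, IsAffineOpen U → α.app (op U) = β.app (op U)) : α = β := by
  ext W x
  refine TopCat.Sheaf.eq_of_locally_eq' (⟨B.presheaf, B.isSheaf⟩ : TopCat.Sheaf CommRingCat.{u} S.carrier)
    (fun U : {U : S.affineOpens // U.1 ≤ W} => U.1.1) W (fun U => homOfLE U.2) (fun s hs => ?_) _ _
    fun U => ?_
  · obtain ⟨V, hV, hsV, hVW⟩ := Opens.isBasis_iff_nbhd.1 S.isBasis_affineOpens hs
    exact Opens.mem_iSup.2 ⟨⟨⟨V, hV⟩, hVW⟩, hsV⟩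
  · have n1 := ConcreteCategory.congr_hom (α.naturality (homOfLE U.2).op) x
    have n2 := ConcreteCategory.congr_hom (β.naturality (homOfLE U.2).op) x
    exact n1.symm.trans ((ConcreteCategory.congr_hom (h U.1.1 U.1.2) _).trans n2)

theorem ι_eq (A : QCAlg S) (U : S.Opens) (hU : IsAffineOpen U) :
    A.ι U hU = Spec.map (A.gammaMap.app (op U)) ≫ (hU.preimage A.π).fromSpec := by
  rw [A.gammaMap_app U hU]
  show A.ι U hU = Spec.map ((A.ι U hU).appLE (A.π ⁻¹ᵁ U) ⊤ (A.top_le_preimage U hU) ≫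
    (Scheme.ΓSpecIso (A.presheaf.obj (op U))).hom) ≫ (hU.preimage A.π).fromSpec
  rw [Spec.map_comp, Category.assoc,
    (hU.preimage A.π).SpecMap_appLE_fromSpec _ (isAffineOpen_top _) (A.top_le_preimage U hU),
    IsAffineOpen.fromSpec_top, Scheme.isoSpec_Spec_inv, ← Category.assoc, ← Spec.map_comp,
    Iso.inv_hom_id, Spec.map_id, Category.id_comp]

/-- the algebra map attached to a morphism into the relative spectrum -/
def toAlg (A : QCAlg S) (g : T ⟶ S) (v : T ⟶ A.spec) (w : v ≫ A.π = g) :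
    A.presheaf ⟶ g.base _* T.presheaf :=
  RelSpecLib.gammaInv A ≫ AffAlg.algHom A.π g v w

theorem toAlg_comm (A : QCAlg S) (g : T ⟶ S) (v : T ⟶ A.spec) (w : v ≫ A.π = g) :
    A.str ≫ toAlg A g v w = g.c := by
  rw [toAlg, ← Category.assoc, RelSpecLib.str_gammaInv, AffAlg.algHom_comm]

theorem lift_toAlg (A : QCAlg S) (g : T ⟶ S) (v : T ⟶ A.spec) (w : v ≫ A.π = g) :
    RelSpecLib.lift g (toAlg A g v w) = v := by
  refine (RelSpecLib.lift_unique g _ v fun U hU => ?_).symm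
  rw [EGA2AlgOf.ι_comp A.π g v w U hU]
  show _ = _ ≫ _ ≫ A.ι U hU
  rw [EGA2AlgOf.piece, ι_eq A U hU, toAlg, NatTrans.comp_app, Spec.map_comp_assoc, ← Spec.map_comp_assoc]
  haveI := RelSpecLib.isIso_gammaMap A
  have h' : A.gammaMap.app (op U) ≫ (RelSpecLib.gammaInv A).app (op U) = 𝟙 _ :=
    NatTrans.congr_app (IsIso.hom_inv_id A.gammaMap) (op U)
  rw [← Spec.map_comp_assoc]
  exact congrArg (fun t => (g ⁻¹ᵁ U).toSpecΓ ≫ Spec.map t ≫ (hU.preimage A.π).fromSpec)
    ((Category.id_comp _).symm.trans ((congrArg (· ≫ _) h'.symm).trans (Category.assoc _ _ _)))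

theorem lift_injective (A : QCAlg S) (g : T ⟶ S) [QuasiCompact g] [QuasiSeparated g]
    {ω ω' : A.presheaf ⟶ g.base _* T.presheaf} (h : RelSpecLib.lift g ω = RelSpecLib.lift g ω') :
    ω = ω' := by
  refine presheaf_hom_ext (QCAlg.directImage g) fun U hU => ?_
  have h1 := (RelSpecLib.ι_lift g ω U hU).symm.trans
    ((congrArg ((g ⁻¹ᵁ U).ι ≫ ·) h).trans (RelSpecLib.ι_lift g ω' U hU))
  simp only [RelSpecLib.liftPiece, ← Category.assoc] at h1
  exact EGA2AlgOf.eq_of_toSpecΓ_SpecMap ((cancel_mono _).1 h1)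

theorem lift_specMap {A B : QCAlg S} (φ : A ⟶ B) (g : T ⟶ S) (ω : B.presheaf ⟶ g.base _* T.presheaf) :
    RelSpecLib.lift g ω ≫ QCAlg.specMap φ = RelSpecLib.lift g (φ.hom ≫ ω) := by
  refine RelSpecLib.lift_unique g _ _ fun U hU => ?_
  rw [← Category.assoc, RelSpecLib.ι_lift g ω U hU]
  simp only [RelSpecLib.liftPiece, Category.assoc, QCAlg.ι_specMap]
  rw [← Spec.map_comp_assoc]
  rfl

theorem toAlg_lift (A : QCAlg S) (g : T ⟶ S) [QuasiCompact g] [QuasiSeparated g]
    (ω : A.presheaf ⟶ g.base _* T.presheaf) (hω : A.str ≫ ω = g.c) :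
    toAlg A g (RelSpecLib.lift g ω) (RelSpecLib.lift_π g ω hω) = ω :=
  lift_injective A g (lift_toAlg A g _ _)

/-- the algebra homomorphism attached to a morphism over the base -/
def toHom (A : QCAlg S) (g : T ⟶ S) [QuasiCompact g] [QuasiSeparated g] (v : T ⟶ A.spec)
    (w : v ≫ A.π = g) : A ⟶ QCAlg.directImage g :=
  ⟨toAlg A g v w, toAlg_comm A g v w⟩

theorem toHom_specMap {A B : QCAlg S} (φ : A ⟶ B) (g : T ⟶ S) [QuasiCompact g] [QuasiSeparated g]
    (v : T ⟶ B.spec) (w : v ≫ B.π = g) (w' : (v ≫ QCAlg.specMap φ) ≫ A.π = g) :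
    toHom A g (v ≫ QCAlg.specMap φ) w' = φ ≫ toHom B g v w := by
  refine QCAlg.hom_ext (lift_injective A g ?_)
  exact (lift_toAlg A g _ w').trans ((lift_specMap φ g _).symm.trans
    (congrArg (· ≫ QCAlg.specMap φ) (lift_toAlg B g v w))).symm

theorem toModuleMap_comp {A B C : QCAlg S} (f : A ⟶ B) (g : B ⟶ C) :
    QCAlg.Hom.toModuleMap (f ≫ g) = QCAlg.Hom.toModuleMap f ≫ QCAlg.Hom.toModuleMap g := rfl

theorem isPullback_biprod (E F : S.Modules) (AE AF A : QCAlg S) (jE : E ⟶ AE.toModule)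
    (jF : F ⟶ AF.toModule) (j : E ⊞ F ⟶ A.toModule)
    (hAE : IsSymAlg E AE jE) (hAF : IsSymAlg F AF jF) (hA : IsSymAlg (E ⊞ F) A j)
    (ψE : AE ⟶ A) (ψF : AF ⟶ A)
    (hψE : jE ≫ QCAlg.Hom.toModuleMap ψE = biprod.inl ≫ j)
    (hψF : jF ≫ QCAlg.Hom.toModuleMap ψF = biprod.inr ≫ j) :
    IsPullback (QCAlg.specMap ψE) (QCAlg.specMap ψF) AE.π AF.π := by
  have hw : QCAlg.specMap ψE ≫ AE.π = QCAlg.specMap ψF ≫ AF.π := by
    rw [QCAlg.specMap_π, QCAlg.specMap_π]
  let k : pullback AE.π AF.π ⟶ S := pullback.fst AE.π AF.π ≫ AE.π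
  have wF : pullback.snd AE.π AF.π ≫ AF.π = k := pullback.condition.symm
  let B := QCAlg.directImage k
  let αE : AE ⟶ B := toHom AE k (pullback.fst AE.π AF.π) rfl
  let αF : AF ⟶ B := toHom AF k (pullback.snd AE.π AF.π) wF
  obtain ⟨ψ, hψ, -⟩ := hA B (biprod.desc (jE ≫ QCAlg.Hom.toModuleMap αE) (jF ≫ QCAlg.Hom.toModuleMap αF))
  have hE' : ψE ≫ ψ = αE := by
    refine (hAE B _).unique ?_ rfl
    rw [toModuleMap_comp, ← Category.assoc, hψE, Category.assoc, hψ, biprod.inl_desc]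
  have hF' : ψF ≫ ψ = αF := by
    refine (hAF B _).unique ?_ rfl
    rw [toModuleMap_comp, ← Category.assoc, hψF, Category.assoc, hψ, biprod.inr_desc]
  let l : pullback AE.π AF.π ⟶ A.spec := RelSpecLib.lift k ψ.hom
  have hlπ : l ≫ A.π = k := RelSpecLib.lift_π k ψ.hom ψ.comm
  have h1 : l ≫ QCAlg.specMap ψE = pullback.fst AE.π AF.π :=
    (lift_specMap ψE k ψ.hom).trans
      ((congrArg (RelSpecLib.lift k) (congrArg QCAlg.Hom.hom hE')).trans (lift_toAlg AE k _ _))
  have h2 : l ≫ QCAlg.specMap ψF = pullback.snd AE.π AF.π :=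
    (lift_specMap ψF k ψ.hom).trans
      ((congrArg (RelSpecLib.lift k) (congrArg QCAlg.Hom.hom hF')).trans (lift_toAlg AF k _ _))
  let c : A.spec ⟶ pullback AE.π AF.π := pullback.lift _ _ hw
  have hcl : c ≫ l = 𝟙 A.spec := by
    have wv : (c ≫ l) ≫ A.π = A.π := by
      rw [Category.assoc, hlπ, pullback.lift_fst_assoc, QCAlg.specMap_π]
    have eE : (c ≫ l) ≫ QCAlg.specMap ψE = 𝟙 A.spec ≫ QCAlg.specMap ψE := by
      rw [Category.assoc, h1, pullback.lift_fst, Category.id_comp]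
    have eF : (c ≫ l) ≫ QCAlg.specMap ψF = 𝟙 A.spec ≫ QCAlg.specMap ψF := by
      rw [Category.assoc, h2, pullback.lift_snd, Category.id_comp]
    have key : toHom A A.π (c ≫ l) wv = toHom A A.π (𝟙 A.spec) (Category.id_comp _) := by
      refine (hA _ _).unique rfl ?_
      apply biprod.hom_ext'
      · rw [← Category.assoc, ← Category.assoc, ← hψE, Category.assoc, Category.assoc,
          ← toModuleMap_comp, ← toModuleMap_comp,
          ← toHom_specMap ψE A.π (c ≫ l) wv (by rw [Category.assoc, QCAlg.specMap_π, wv]),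
          ← toHom_specMap ψE A.π (𝟙 A.spec) (Category.id_comp _)
            (by rw [Category.id_comp, QCAlg.specMap_π])]
        simp only [eE]
      · rw [← Category.assoc, ← Category.assoc, ← hψF, Category.assoc, Category.assoc,
          ← toModuleMap_comp, ← toModuleMap_comp,
          ← toHom_specMap ψF A.π (c ≫ l) wv (by rw [Category.assoc, QCAlg.specMap_π, wv]),
          ← toHom_specMap ψF A.π (𝟙 A.spec) (Category.id_comp _)
            (by rw [Category.id_comp, QCAlg.specMap_π])]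
        simp only [eF]
    exact (lift_toAlg A A.π (c ≫ l) wv).symm.trans
      ((congrArg (RelSpecLib.lift A.π) (congrArg QCAlg.Hom.hom key)).trans
        (lift_toAlg A A.π (𝟙 A.spec) (Category.id_comp _)))
  have hlc : l ≫ c = 𝟙 _ := by
    apply pullback.hom_ext
    · rw [Category.assoc, pullback.lift_fst, h1, Category.id_comp]
    · rw [Category.assoc, pullback.lift_snd, h2, Category.id_comp]
  exact IsPullback.of_iso_pullback ⟨hw⟩ ⟨c, l, hcl, hlc⟩ (pullback.lift_fst _ _ _)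
    (pullback.lift_snd _ _ _)

end EGA2SpecUniv
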