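import Mathlib

/-!
# Homogeneous primes are determined by their tails
-/

noncomputable section

universe u

open DirectSum

namespace Groth.Agent.EGA2Misc

variable {R A : Type u} [CommRing R] [CommRing A] [Algebra R A] (𝒜 : ℕ → Submodule R A) [GradedAlgebra 𝒜]

theorem exists_hom_notMem_tail {𝔭 : HomogeneousIdeal 𝒜} (h𝔭 : 𝔭.toIdeal.IsPrime)
    (hne : ¬ HomogeneousIdeal.irrelevant 𝒜 ≤ 𝔭) (n₀ : ℕ) :
    ∃ n, n₀ ≤ n ∧ ∃ h ∈ 𝒜 n, h ∉ 𝔭.toIdeal := by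
  obtain ⟨e, g, he, hg, hgp⟩ : ∃ (e : ℕ) (g : A), 0 < e ∧ g ∈ 𝒜 e ∧ g ∉ 𝔭.toIdeal := by
    by_contra hall
    push Not at hall
    exact hne ((HomogeneousIdeal.toIdeal_irrelevant_le _).2 fun i hi a ha => hall i a hi ha)
  exact ⟨n₀ • e, Nat.le_mul_of_pos_right _ he, g ^ n₀, SetLike.pow_mem_graded n₀ hg,
    fun h => hgp (h𝔭.mem_of_pow_mem n₀ h)⟩

variable (n₀ : ℕ) (p : ℕ → AddSubgroup A)

theorem tail_unique {𝔭 𝔮 : HomogeneousIdeal 𝒜} (h𝔭 : 𝔭.toIdeal.IsPrime) (h𝔮 : 𝔮.toIdeal.IsPrime)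
    (hne : ¬ HomogeneousIdeal.irrelevant 𝒜 ≤ 𝔭)
    (h1 : ∀ n : ℕ, n₀ ≤ n → (𝔭.toIdeal : Set A) ∩ 𝒜 n = p n)
    (h2 : ∀ n : ℕ, n₀ ≤ n → (𝔮.toIdeal : Set A) ∩ 𝒜 n = p n) : 𝔭 = 𝔮 := by
  classical
  have heq : ∀ n, n₀ ≤ n → ∀ x ∈ 𝒜 n, x ∈ 𝔭.toIdeal ↔ x ∈ 𝔮.toIdeal := by
    intro n hn x hx
    have := Set.ext_iff.1 ((h1 n hn).trans (h2 n hn).symm) x
    simpa [hx] using this
  obtain ⟨n, hn, h, hh, hhp⟩ := exists_hom_notMem_tail 𝒜 h𝔭 hne n₀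
  have hhq : h ∉ 𝔮.toIdeal := fun hc => hhp ((heq n hn h hh).2 hc)
  have hx : ∀ m, ∀ x ∈ 𝒜 m, x ∈ 𝔭.toIdeal ↔ x ∈ 𝔮.toIdeal := by
    intro m x hx
    have := heq (m + n) (le_trans hn (Nat.le_add_left _ _)) (x * h) (SetLike.mul_mem_graded hx hh)
    exact ⟨fun hx' => (h𝔮.mem_or_mem (this.1 (Ideal.mul_mem_right _ _ hx'))).resolve_right hhq,
      fun hx' => (h𝔭.mem_or_mem (this.2 (Ideal.mul_mem_right _ _ hx'))).resolve_right hhp⟩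
  refine HomogeneousIdeal.ext (le_antisymm ?_ ?_)
  · intro a ha
    rw [← DirectSum.sum_support_decompose 𝒜 a]
    exact Ideal.sum_mem _ fun i _ => (hx i _ (SetLike.coe_mem _)).1 (𝔭.isHomogeneous i ha)
  · intro a ha
    rw [← DirectSum.sum_support_decompose 𝒜 a]
    exact Ideal.sum_mem _ fun i _ => (hx i _ (SetLike.coe_mem _)).2 (𝔮.isHomogeneous i ha)

theorem exists_prime_with_tail (hn₀ : 0 < n₀) (hp : ∀ n : ℕ, n₀ ≤ n → (p n : Set A) ⊆ 𝒜 n)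
    (c1 : ∀ m n : ℕ, n₀ ≤ n → ∀ a ∈ 𝒜 m, ∀ b ∈ p n, a * b ∈ p (m + n))
    (c2 : ∀ m n : ℕ, n₀ ≤ m → n₀ ≤ n → ∀ f ∈ 𝒜 m, ∀ g ∈ 𝒜 n, f * g ∈ p (m + n) → f ∈ p m ∨ g ∈ p n)
    (c3 : ∃ n : ℕ, n₀ ≤ n ∧ (p n : Set A) ≠ 𝒜 n) :
    ∃ 𝔭 : HomogeneousIdeal 𝒜, 𝔭.toIdeal.IsPrime ∧ ¬ HomogeneousIdeal.irrelevant 𝒜 ≤ 𝔭 ∧
        ∀ n : ℕ, n₀ ≤ n → (𝔭.toIdeal : Set A) ∩ 𝒜 n = p n := by
  classical
  obtain ⟨n₁, hn₁, hne⟩ := c3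
  obtain ⟨h, hh, hhp⟩ := Set.not_subset.1 fun hs => hne (Set.Subset.antisymm (hp n₁ hn₁) hs)
  have hhom : ∀ (c : A) (i : ℕ), c ∈ 𝒜 i → ∀ a : A,
      (∀ m, (decompose 𝒜 a m : A) * h ∈ p (m + n₁)) →
      ∀ m, (decompose 𝒜 (c * a) m : A) * h ∈ p (m + n₁) := by
    intro c i hc a ha m
    rcases le_or_gt i m with him | him
    · rw [coe_decompose_mul_of_left_mem_of_le 𝒜 hc him, mul_assoc,
        show m + n₁ = i + (m - i + n₁) by omega]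
      exact c1 i _ (le_trans hn₁ (Nat.le_add_left _ _)) c hc _ (ha _)
    · rw [coe_decompose_mul_of_left_mem_of_not_le 𝒜 hc (not_le.2 him), zero_mul]
      exact zero_mem _
  let I : Ideal A :=
    { carrier := {a | ∀ m, (decompose 𝒜 a m : A) * h ∈ p (m + n₁)}
      zero_mem' := fun m => by simp
      add_mem' := fun {a b} ha hb m => by
        rw [decompose_add, DirectSum.add_apply, AddMemClass.coe_add, add_mul]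
        exact add_mem (ha m) (hb m)
      smul_mem' := fun c a ha m => by
        rw [smul_eq_mul, ← DirectSum.sum_support_decompose 𝒜 c, Finset.sum_mul, decompose_sum,
          DFinsupp.finsetSum_apply, AddSubmonoidClass.coe_finsetSum, Finset.sum_mul]
        exact sum_mem fun i _ => hhom _ i (SetLike.coe_mem _) a ha m }
  have hI : ∀ m, ∀ x ∈ 𝒜 m, (x ∈ I ↔ x * h ∈ p (m + n₁)) := by
    intro m x hx
    refine ⟨fun hxI => ?_, fun hxh k => ?_⟩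
    · have := hxI m
      rwa [decompose_of_mem_same 𝒜 hx] at this
    · by_cases hk : m = k
      · subst hk; rwa [decompose_of_mem_same 𝒜 hx]
      · rw [decompose_of_mem_ne 𝒜 hx hk, zero_mul]; exact zero_mem _
  have hhom' : I.IsHomogeneous 𝒜 := fun i a ha => (hI i _ (SetLike.coe_mem _)).2 (ha i)
  have htail : ∀ m, n₀ ≤ m → ∀ x ∈ 𝒜 m, (x ∈ I ↔ x ∈ p m) := by
    intro m hm x hx
    rw [hI m x hx]
    refine ⟨fun hxh => (c2 m n₁ hm hn₁ x hx h hh hxh).resolve_right hhp, fun hxp => ?_⟩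
    rw [mul_comm, add_comm]
    exact c1 n₁ m hm h hh x hxp
  have hhI : h ∉ I := fun hc => hhp ((htail n₁ hn₁ h hh).1 hc)
  refine ⟨⟨I, hhom'⟩, ?_, fun hle => hhI (hle (HomogeneousIdeal.mem_irrelevant_of_mem 𝒜
    (lt_of_lt_of_le hn₀ hn₁) hh)), fun n hn => Set.ext fun x => ⟨fun hx => (htail n hn x hx.2).1 hx.1,
      fun hx => ⟨(htail n hn x (hp n hn hx)).2 hx, hp n hn hx⟩⟩⟩
  refine hhom'.isPrime_of_homogeneous_mem_or_mem (fun htop => hhI (htop ▸ Submodule.mem_top)) ?_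
  rintro x y ⟨a, hx⟩ ⟨b, hy⟩ hxy
  rw [hI _ _ (SetLike.mul_mem_graded hx hy)] at hxy
  have h2 : x * h * (y * h) ∈ p ((a + n₁) + (b + n₁)) := by
    rw [show x * h * (y * h) = h * (x * y * h) by ring, show a + n₁ + (b + n₁) = n₁ + (a + b + n₁) by omega]
    exact c1 n₁ _ (le_trans hn₁ (Nat.le_add_left _ _)) h hh _ hxy
  rcases c2 _ _ (le_trans hn₁ (Nat.le_add_left _ _)) (le_trans hn₁ (Nat.le_add_left _ _)) _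
    (SetLike.mul_mem_graded hx hh) _ (SetLike.mul_mem_graded hy hh) h2 with hc | hc
  · exact Or.inl ((hI a x hx).2 hc)
  · exact Or.inr ((hI b y hy).2 hc)

theorem homogeneous_prime_with_tail (hn₀ : 0 < n₀) (hp : ∀ n : ℕ, n₀ ≤ n → (p n : Set A) ⊆ 𝒜 n) :
    ((∃ 𝔭 : HomogeneousIdeal 𝒜, 𝔭.toIdeal.IsPrime ∧ ¬ HomogeneousIdeal.irrelevant 𝒜 ≤ 𝔭 ∧
        ∀ n : ℕ, n₀ ≤ n → (𝔭.toIdeal : Set A) ∩ 𝒜 n = p n) ↔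
      ((∀ m n : ℕ, n₀ ≤ n → ∀ a ∈ 𝒜 m, ∀ b ∈ p n, a * b ∈ p (m + n)) ∧
        (∀ m n : ℕ, n₀ ≤ m → n₀ ≤ n → ∀ f ∈ 𝒜 m, ∀ g ∈ 𝒜 n, f * g ∈ p (m + n) → f ∈ p m ∨ g ∈ p n) ∧
        ∃ n : ℕ, n₀ ≤ n ∧ (p n : Set A) ≠ 𝒜 n)) ∧
    ∀ 𝔭 𝔮 : HomogeneousIdeal 𝒜, 𝔭.toIdeal.IsPrime → 𝔮.toIdeal.IsPrime →
      ¬ HomogeneousIdeal.irrelevant 𝒜 ≤ 𝔭 → ¬ HomogeneousIdeal.irrelevant 𝒜 ≤ 𝔮 →
      (∀ n : ℕ, n₀ ≤ n → (𝔭.toIdeal : Set A) ∩ 𝒜 n = p n) → (∀ n : ℕ, n₀ ≤ n → (𝔮.toIdeal : Set A) ∩ 𝒜 n = p n) →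
      𝔭 = 𝔮 := by
  refine ⟨⟨?_, fun ⟨c1, c2, c3⟩ => exists_prime_with_tail 𝒜 n₀ p hn₀ hp c1 c2 c3⟩,
    fun 𝔭 𝔮 h1 h2 hne _ e1 e2 => tail_unique 𝒜 n₀ p h1 h2 hne e1 e2⟩
  rintro ⟨𝔭, h𝔭, hne, ht⟩
  have hmem : ∀ n, n₀ ≤ n → ∀ x, x ∈ p n ↔ x ∈ 𝔭.toIdeal ∧ x ∈ 𝒜 n := fun n hn x =>
    (Set.ext_iff.1 (ht n hn) x).symm
  refine ⟨fun m n hn a ha b hb => ?_, fun m n hm hn f hf g hg hfg => ?_, ?_⟩
  · obtain ⟨hb1, hb2⟩ := (hmem n hn b).1 hb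
    exact (hmem _ (le_trans hn (Nat.le_add_left _ _)) _).2
      ⟨Ideal.mul_mem_left _ _ hb1, SetLike.mul_mem_graded ha hb2⟩
  · have := ((hmem _ (le_trans hn (Nat.le_add_left _ _)) _).1 hfg).1
    exact (h𝔭.mem_or_mem this).imp (fun h => (hmem m hm f).2 ⟨h, hf⟩) fun h => (hmem n hn g).2 ⟨h, hg⟩
  · obtain ⟨n, hn, h, hh, hhp⟩ := exists_hom_notMem_tail 𝒜 h𝔭 hne n₀
    exact ⟨n, hn, fun he => hhp ((hmem n hn h).1 (he.symm ▸ hh : h ∈ (p n : Set A))).1⟩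

end Groth.Agent.EGA2Misc
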